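import Groth.Agent.MultHopf.HomLocus
import Groth.Agent.MultTypeMono.Basic
import Mathlib.AlgebraicGeometry.Morphisms.LocalFlatDescent

/-!
# Groups of multiplicative type of finite type are flat and locally of finite presentation
-/

set_option autoImplicit false
set_option backward.isDefEq.respectTransparency.types false

universe u

open CategoryTheory CategoryTheory.Limits MonoidalCategory CartesianMonoidalCategory AlgebraicGeometry

namespace Groth.Agent.WeilAff

variable {S : Scheme.{u}}

theorem descend_fpqcCover (P : MorphismProperty Scheme.{u}) [IsZariskiLocalAtTarget P] [P.IsStableUnderBaseChange]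
    [P.DescendsAlong (@Surjective ⊓ @Flat ⊓ @QuasiCompact)] {S' X : Scheme.{u}} (f : S' ⟶ S) [Flat f]
    (hcov : ∀ V : S.Opens, IsAffineOpen V → ∃ W : S'.Opens, IsCompact (W : Set S') ∧ f.base '' (W : Set S') = (V : Set S))
    (h : X ⟶ S) (h' : P (pullback.snd h f)) : P h := by
  rw [IsZariskiLocalAtTarget.iff_of_iSup_eq_top (P := P) _ (iSup_affineOpens_eq_top S)]
  rintro ⟨V, hV⟩
  obtain ⟨W, hWc, hWV⟩ := hcov V hV
  have hle : W ≤ f ⁻¹ᵁ V := fun w hw => hWV.le ⟨w, hw, rfl⟩
  let b : W.toScheme ⟶ V.toScheme := f.resLE V W hle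
  have hb : b ≫ V.ι = W.ι ≫ f := Scheme.Hom.resLE_comp_ι f hle
  have : IsAffine V.toScheme := hV
  have : CompactSpace W.toScheme := isCompact_iff_compactSpace.1 hWc
  have : QuasiCompact b := inferInstance
  have : Flat b := MorphismProperty.of_postcomp (W := @Flat) (W' := @IsOpenImmersion) b V.ι
    inferInstance (hb ▸ inferInstance)
  have : Surjective b := ⟨fun v => by
    obtain ⟨w, hw, hwv⟩ := hWV.ge v.2
    refine ⟨⟨w, hw⟩, V.ι.isOpenEmbedding.injective ?_⟩
    rw [← Scheme.Hom.comp_apply, hb, Scheme.Hom.comp_apply]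
    exact hwv⟩
  rw [← (isPullback_morphismRestrict h V).flip.isoPullback_hom_snd,
    MorphismProperty.cancel_left_of_respectsIso (P := P)]
  refine MorphismProperty.of_pullback_snd_of_descendsAlong (P := P)
    (Q := @Surjective ⊓ @Flat ⊓ @QuasiCompact) (g := b)
    ⟨⟨‹Surjective b›, ‹Flat b›⟩, ‹QuasiCompact b›⟩ ?_
  rw [← pullbackLeftPullbackSndIso_hom_snd, MorphismProperty.cancel_left_of_respectsIso (P := P)]
  have hP : ∀ (q : W.toScheme ⟶ S), q = W.ι ≫ f → P (pullback.snd h q) := by
    rintro _ rfl
    rw [← MorphismProperty.cancel_left_of_respectsIso (P := P)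
      (pullbackLeftPullbackSndIso h f W.ι).hom, pullbackLeftPullbackSndIso_hom_snd]
    exact MorphismProperty.pullback_snd _ _ h'
  exact hP _ hb

theorem of_isMultTypeFT (P : MorphismProperty Scheme.{u}) [IsZariskiLocalAtTarget P] [P.IsStableUnderBaseChange]
    [P.DescendsAlong (@Surjective ⊓ @Flat ⊓ @QuasiCompact)]
    (hD : ∀ (T : Scheme.{u}) (M : Type) [AddCommGroup M] [AddGroup.FG M], P (Red.DS T M).hom)
    (H : Over S) [GrpObj H] (hH : SGA3x.IsMultTypeFT H) :
    P H.hom := by
  obtain ⟨S', f, hfl, hsurj, hcov, hloc⟩ := hH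
  have h' : P (pullback.snd H.hom f) := by
    choose U hU M _ hM hiso using hloc
    have hsup : iSup U = ⊤ := top_le_iff.1 fun x _ => TopologicalSpace.Opens.mem_iSup.2 ⟨x, hU x⟩
    refine IsZariskiLocalAtTarget.of_iSup_eq_top (P := P) U hsup fun x => ?_
    obtain ⟨e⟩ := hiso x
    have : AddGroup.FG (M x) := hM x
    have hl := hD (U x : Scheme.{u}) (M x)
    let g : Red.bc ((U x).ι ≫ f) H ⟶ Red.DS (U x : Scheme.{u}) (M x) := e.hom.hom.hom
    have hg : IsIso g := by
      have : IsIso ((Grp.forget _).map e.hom) := inferInstance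
      exact this
    have : IsIso g.left := inferInstanceAs (IsIso ((Over.forget _).map g))
    have hbc : P (pullback.snd H.hom ((U x).ι ≫ f)) := by
      have hw : g.left ≫ (Red.DS (U x : Scheme.{u}) (M x)).hom = pullback.snd H.hom ((U x).ι ≫ f) := Over.w g
      rw [← hw, MorphismProperty.cancel_left_of_respectsIso (P := P)]
      exact hl
    rw [← (isPullback_morphismRestrict (pullback.snd H.hom f) (U x)).flip.isoPullback_hom_snd,
      MorphismProperty.cancel_left_of_respectsIso (P := P),
      ← MorphismProperty.cancel_left_of_respectsIso (P := P)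
        (pullbackLeftPullbackSndIso H.hom f (U x).ι).inv, pullbackLeftPullbackSndIso_inv_snd_snd]
    exact hbc
  exact descend_fpqcCover P f hcov H.hom h'

theorem locallyOfFinitePresentation_DS (T : Scheme.{u}) (M : Type) [AddCommGroup M] [AddGroup.FG M] :
    LocallyOfFinitePresentation (Red.DS T M).hom := by
  refine MorphismProperty.pullback_snd _ _ ?_
  have : AddMonoid.FG M := AddGroup.fg_iff_addMonoid_fg.1 inferInstance
  have : Monoid.FG (Multiplicative M) := AddMonoid.fg_iff_mul_fg.1 inferInstance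
  show LocallyOfFinitePresentation (Spec.map (CommRingCat.ofHom
    (algebraMap (ULift.{u} ℤ) (MonoidAlgebra (ULift.{u} ℤ) (Multiplicative M)))))
  rw [HasRingHomProperty.Spec_iff (P := @LocallyOfFinitePresentation)]
  haveI : IsNoetherianRing (ULift.{u} ℤ) := isNoetherianRing_of_ringEquiv ℤ ULift.ringEquiv.symm
  refine RingHom.finitePresentation_algebraMap.2 ?_
  exact Algebra.FinitePresentation.of_finiteType.1 inferInstance

theorem flat_DS (T : Scheme.{u}) (M : Type) [AddCommGroup M] :
    Flat (Red.DS T M).hom := by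
  refine MorphismProperty.pullback_snd _ _ ?_
  show Flat (Spec.map (CommRingCat.ofHom
    (algebraMap (ULift.{u} ℤ) (MonoidAlgebra (ULift.{u} ℤ) (Multiplicative M)))))
  rw [HasRingHomProperty.Spec_iff (P := @Flat)]
  exact RingHom.flat_algebraMap_iff.2 inferInstance

theorem flat_of_isMultTypeFT (H : Over S) [GrpObj H] (hH : SGA3x.IsMultTypeFT H) : Flat H.hom :=
  of_isMultTypeFT @Flat (fun T M => flat_DS T M) H hH

theorem locallyOfFinitePresentation_of_isMultTypeFT (H : Over S) [GrpObj H]
    (hH : SGA3x.IsMultTypeFT H) : LocallyOfFinitePresentation H.hom :=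
  of_isMultTypeFT @LocallyOfFinitePresentation (fun T M => locallyOfFinitePresentation_DS T M) H hH

end Groth.Agent.WeilAff
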