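import Mathlib.CategoryTheory.Monoidal.Cartesian.Basic
import Mathlib.CategoryTheory.Sites.Canonical
import Mathlib.CategoryTheory.Sites.SheafOfTypes
import Mathlib.CategoryTheory.Sites.SubcanonicalOver
import Mathlib.AlgebraicGeometry.Sites.Fpqc
import Mathlib.AlgebraicGeometry.Sites.BigZariski

/-!
# The presheaf `T ↦ (B ⊗ T ⟶ X)` is a sheaf
-/

set_option autoImplicit false

universe v u

open CategoryTheory MonoidalCategory CartesianMonoidalCategory Opposite
open scoped MonObj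

namespace Groth.Agent.WeilAff

variable {C : Type u} [Category.{v} C] [CartesianMonoidalCategory C] (J : GrothendieckTopology C)
  [J.Subcanonical]

theorem isSheaf_yonedaObj (X : C) : Presieve.IsSheaf J (yoneda.obj X) :=
  GrothendieckTopology.Subcanonical.isSheaf_of_isRepresentable _

/-- `T ↦ (B ⊗ T ⟶ X)`. -/
abbrev homPsh (B X : C) : Cᵒᵖ ⥤ Type v := (tensorLeft B).op ⋙ yoneda.obj X

theorem isSheaf_homPsh (B X : C) : Presheaf.IsSheaf J (homPsh B X) := by
  rw [isSheaf_iff_isSheaf_of_type]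
  intro T R hR
  intro x hx
  let x' : Presieve.FamilyOfElements (yoneda.obj X) (R.pullback (snd B T)).arrows :=
    fun Z h hh => lift (h ≫ fst B T) (𝟙 Z) ≫ x (h ≫ snd B T) hh
  have hval : ∀ {Z₁ Z₂ : C} (k : Z₁ ⟶ Z₂) (f : Z₂ ⟶ T) (hf : R f) (hf' : R (k ≫ f)),
      x (k ≫ f) hf' = (B ◁ k) ≫ x f hf := fun k f hf hf' =>
    (Presieve.compatible_iff_sieveCompatible x).1 hx f k hf
  have hcongr : ∀ {Z : C} {f f' : Z ⟶ T} (hf : R f) (hf' : R f'), f = f' →
      x f hf = x f' hf' := by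
    intro Z f f' hf hf' e; subst e; rfl
  have hx' : x'.Compatible := by
    rw [Presieve.compatible_iff_sieveCompatible]
    intro Z₂ Z₁ h k hh
    change lift ((k ≫ h) ≫ fst B T) (𝟙 Z₁) ≫ x ((k ≫ h) ≫ snd B T) _ =
      k ≫ lift (h ≫ fst B T) (𝟙 Z₂) ≫ x (h ≫ snd B T) hh
    have e : x ((k ≫ h) ≫ snd B T) ((R.pullback (snd B T)).downward_closed hh k) =
        (B ◁ k) ≫ x (h ≫ snd B T) hh :=
      (hcongr _ (R.downward_closed hh k) (Category.assoc _ _ _)).trans
        (hval k (h ≫ snd B T) hh (R.downward_closed hh k))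
    rw [e, lift_whiskerLeft_assoc, comp_lift_assoc, Category.assoc, Category.comp_id, Category.id_comp]
  obtain ⟨z, hz, hu⟩ := isSheaf_yonedaObj J X _ (J.pullback_stable (snd B T) hR) x' hx'
  have hres : ∀ {Z : C} (f : Z ⟶ T) (hf : R f), (B ◁ f) ≫ z = x f hf := by
    intro Z f hf
    have hh : (R.pullback (snd B T)).arrows (B ◁ f) := by
      change R ((B ◁ f) ≫ snd B T)
      rw [whiskerLeft_snd]
      exact R.downward_closed hf _
    refine (hz (B ◁ f) hh).trans ?_
    change lift ((B ◁ f) ≫ fst B T) (𝟙 _) ≫ x ((B ◁ f) ≫ snd B T) hh = _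
    have e : x ((B ◁ f) ≫ snd B T) hh = (B ◁ snd B Z) ≫ x f hf :=
      (hcongr _ (R.downward_closed hf _) (whiskerLeft_snd _ _)).trans
        (hval (snd B Z) f hf (R.downward_closed hf _))
    rw [e, lift_whiskerLeft_assoc, whiskerLeft_fst, Category.id_comp, lift_fst_snd, Category.id_comp]
  refine ⟨z, fun Z f hf => hres f hf, fun w hw => hu w fun Z h hh => ?_⟩
  change h ≫ w = lift (h ≫ fst B T) (𝟙 Z) ≫ x (h ≫ snd B T) hh
  rw [← hw (h ≫ snd B T) hh]
  change _ = lift (h ≫ fst B T) (𝟙 Z) ≫ (B ◁ (h ≫ snd B T)) ≫ w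
  rw [lift_whiskerLeft_assoc, Category.id_comp, ← comp_lift,
    lift_fst_snd, Category.comp_id]

end Groth.Agent.WeilAff
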