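import Groth.Agent.WeilAff.Local
import Groth.Agent.WeilAff.HomSheaf
import Groth.Agent.Magnet.OverRep

/-!
# Morphisms out of a finite locally free scheme into an affine scheme
-/

set_option autoImplicit false
set_option backward.isDefEq.respectTransparency.types false

universe u

open CategoryTheory CategoryTheory.Limits MonoidalCategory CartesianMonoidalCategory AlgebraicGeometry Opposite

namespace Groth.Agent.WeilAff

variable {S : Scheme.{u}} {H G : Over S}

/-- Representability on affine schemes over an open extends to all schemes over it. -/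
theorem repAt_of_affine {Z : Over S} {z : H ⊗ Z ⟶ G} (U : S.Opens)
    (h : ∀ T : Over S, IsAffine T.left → Set.range T.hom ⊆ (U : Set S) → RepAt H G Z z T)
    (T : Over S) (hT : Set.range T.hom ⊆ (U : Set S)) : RepAt H G Z z T := by
  have cover : ∀ T : Over S, Set.range T.hom ⊆ (U : Set S) → ∃ R : Sieve T,
      R ∈ Scheme.zariskiTopology.over S T ∧ ∀ ⦃W : Over S⦄ (k : W ⟶ T), R k →
        ∃ (T' : Over S) (u : W ⟶ T') (g : T' ⟶ T), IsAffine T'.left ∧
          Set.range T'.hom ⊆ (U : Set S) ∧ u ≫ g = k := by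
    intro T hT
    let g : ∀ i : T.left.affineCover.I₀, Over.mk (T.left.affineCover.f i ≫ T.hom) ⟶ T :=
      fun i => Over.homMk (T.left.affineCover.f i) rfl
    refine ⟨Sieve.ofArrows _ g, ?_, ?_⟩
    · rw [GrothendieckTopology.mem_over_iff, Sieve.overEquiv_ofArrows]
      exact T.left.affineCover.mem_grothendieckTopology
    · rintro W k ⟨T', u, _, ⟨i⟩, rfl⟩
      refine ⟨_, u, g i, inferInstanceAs (IsAffine (T.left.affineCover.X i)), ?_, rfl⟩
      rintro _ ⟨x, rfl⟩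
      exact hT ⟨_, rfl⟩
  have inj : ∀ T : Over S, Set.range T.hom ⊆ (U : Set S) → ∀ v v' : T ⟶ Z,
      (H ◁ v) ≫ z = (H ◁ v') ≫ z → v = v' := by
    intro T hT v v' hv
    obtain ⟨R, hR, hRk⟩ := cover T hT
    refine (isSheaf_yonedaObj (Scheme.zariskiTopology.over S) Z R hR).isSeparatedFor.ext fun W k hk => ?_
    obtain ⟨T', u, g, hT', hr, rfl⟩ := hRk k hk
    change (u ≫ g) ≫ v = (u ≫ g) ≫ v'
    rw [Category.assoc, Category.assoc, (h T' hT' hr _).unique rfl
      (show (H ◁ (g ≫ v')) ≫ z = (H ◁ (g ≫ v)) ≫ z by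
        rw [whiskerLeft_comp, whiskerLeft_comp, Category.assoc, Category.assoc, hv])]
  intro φ
  refine existsUnique_of_exists_of_unique ?_ (fun v v' hv hv' => inj T hT v v' (hv.trans hv'.symm))
  obtain ⟨R, hR, hRk⟩ := cover T hT
  have hex : ∀ ⦃W : Over S⦄ (k : W ⟶ T), R k → ∃ v : W ⟶ Z, (H ◁ v) ≫ z = (H ◁ k) ≫ φ := by
    intro W k hk
    obtain ⟨T', u, g, hT', hr, rfl⟩ := hRk k hk
    obtain ⟨v, hv, -⟩ := h T' hT' hr ((H ◁ g) ≫ φ)
    exact ⟨u ≫ v, by rw [whiskerLeft_comp, Category.assoc, hv, whiskerLeft_comp, Category.assoc]⟩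
  have hWr : ∀ {W : Over S} (k : W ⟶ T), Set.range W.hom ⊆ (U : Set S) := by
    rintro W k _ ⟨x, rfl⟩
    exact hT ⟨k.left x, by rw [← Scheme.Hom.comp_apply, Over.w k]⟩
  let fam : Presieve.FamilyOfElements (yoneda.obj Z) R.arrows := fun W k hk => (hex k hk).choose
  have hfam : fam.Compatible := by
    rw [Presieve.compatible_iff_sieveCompatible]
    intro W W' k u hk
    change (hex (u ≫ k) (R.downward_closed hk u)).choose = u ≫ (hex k hk).choose
    refine inj W' (hWr (u ≫ k)) _ _ ?_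
    rw [(hex (u ≫ k) (R.downward_closed hk u)).choose_spec, whiskerLeft_comp, whiskerLeft_comp, Category.assoc,
      Category.assoc, (hex k hk).choose_spec]
  obtain ⟨v, hv, -⟩ := isSheaf_yonedaObj (Scheme.zariskiTopology.over S) Z R hR fam hfam
  refine ⟨v, ?_⟩
  refine ((isSheaf_iff_isSheaf_of_type _ _).1
    (isSheaf_homPsh (Scheme.zariskiTopology.over S) H G) R hR).isSeparatedFor.ext fun W k hk => ?_
  change (H ◁ k) ≫ (H ◁ v) ≫ z = (H ◁ k) ≫ φ
  rw [← whiskerLeft_comp_assoc, show k ≫ v = fam k hk from hv k hk]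
  exact (hex k hk).choose_spec

/-- `T ↦ (H ⊗ T ⟶ G)` is represented by a scheme affine over `S`. -/
theorem exists_repHom [IsFinite H.hom] [Flat H.hom] [LocallyOfFinitePresentation H.hom]
    [IsAffineHom G.hom] :
    ∃ (Z : Over S) (z : H ⊗ Z ⟶ G), (∀ T : Over S, RepAt H G Z z T) ∧ IsAffineHom Z.hom ∧
      (LocallyOfFiniteType G.hom → LocallyOfFiniteType Z.hom) ∧
      (LocallyOfFinitePresentation G.hom → LocallyOfFinitePresentation Z.hom) := by
  choose ZU zU haff hrange hft hfp hrep using fun U : S.affineOpens => exists_repAt_affine (H := H) (G := G) U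
  have hrep' : ∀ (U : S.affineOpens) (T : Over S), Set.range T.hom ⊆ (U.1 : Set S) →
      RepAt H G (ZU U) (zU U) T := fun U => repAt_of_affine U.1 (hrep U)
  let X : Over S := Over.mk (𝟙 S)
  let e : homPsh H G ⟶ yoneda.obj X :=
    { app := fun T => TypeCat.ofHom fun _ => (Over.homMk T.unop.hom (Category.comp_id _) : T.unop ⟶ X)
      naturality := fun T T' f => by
        refine TypeCat.homEquiv.injective (funext fun _ => Over.OverMorphism.ext ?_)
        exact (Over.w f.unop).symm }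
  obtain ⟨Z, ⟨rep⟩⟩ := Magnet.exists_representableBy_of_openCover (F := homPsh H G)
    (isSheaf_homPsh _ H G) (X := X) e (fun U : S.affineOpens => U.1) (fun T x => by
      change ⨆ U : S.affineOpens, T.hom ⁻¹ᵁ U.1 = ⊤
      rw [← Scheme.Hom.preimage_iSup, iSup_affineOpens_eq_top, Scheme.Hom.preimage_top])
    (fun U => ⟨ZU U, zU U, hrange U, fun T x hx => hrep' U T hx x⟩)
  obtain ⟨z, hz⟩ : ∃ z : H ⊗ Z ⟶ G, ∀ (T : Over S) (v : T ⟶ Z), rep.homEquiv v = (H ◁ v) ≫ z :=
    ⟨rep.homEquiv (𝟙 Z), fun T v => rep.homEquiv_eq v⟩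
  have hZ : ∀ T : Over S, RepAt H G Z z T := fun T φ => by
    obtain ⟨v, rfl⟩ := rep.homEquiv.surjective φ
    exact ⟨v, (hz T v).symm, fun v' hv' => rep.homEquiv.injective (by rw [hz, hv'])⟩
  have hiso : ∀ U : S.affineOpens, ∃ i : (Z.hom ⁻¹ᵁ U.1).toScheme ≅ (ZU U).left,
      i.hom ≫ (ZU U).hom = (Z.hom ⁻¹ᵁ U.1).ι ≫ Z.hom := by
    intro U
    let Z' : Over S := Over.mk ((Z.hom ⁻¹ᵁ U.1).ι ≫ Z.hom)
    let inc : Z' ⟶ Z := Over.homMk (Z.hom ⁻¹ᵁ U.1).ι rfl
    have hZ' : Set.range Z'.hom ⊆ (U.1 : Set S) := by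
      rintro _ ⟨x, rfl⟩
      exact x.2
    obtain ⟨a, ha, -⟩ := hrep' U Z' hZ' ((H ◁ inc) ≫ z)
    obtain ⟨b₀, hb₀, -⟩ := hZ (ZU U) (zU U)
    have hb₀r : Set.range b₀.left ⊆ Set.range (Z.hom ⁻¹ᵁ U.1).ι := by
      rw [Scheme.Opens.range_ι]
      rintro _ ⟨x, rfl⟩
      refine hrange U ⟨x, ?_⟩
      rw [← Over.w b₀, Scheme.Hom.comp_apply]
    let b : ZU U ⟶ Z' := Over.homMk (IsOpenImmersion.lift _ _ hb₀r) (by
      change IsOpenImmersion.lift _ _ hb₀r ≫ _ ≫ Z.hom = _
      rw [IsOpenImmersion.lift_fac_assoc, Over.w b₀])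
    have hb : b ≫ inc = b₀ := Over.OverMorphism.ext (IsOpenImmersion.lift_fac _ _ _)
    have hab : a ≫ b₀ = inc := (hZ Z' ((H ◁ inc) ≫ z)).unique
      (by rw [whiskerLeft_comp, Category.assoc, hb₀, ha]) rfl
    have h1 : a ≫ b = 𝟙 Z' := by
      refine Over.OverMorphism.ext ((cancel_mono (Z.hom ⁻¹ᵁ U.1).ι).1 ?_)
      have : (a ≫ b) ≫ inc = inc := by rw [Category.assoc, hb, hab]
      exact (congrArg CommaMorphism.left this).trans (Category.id_comp _).symm
    have h2 : b ≫ a = 𝟙 (ZU U) := (hrep' U (ZU U) (hrange U) (zU U)).unique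
      (by rw [whiskerLeft_comp, Category.assoc, ha, ← whiskerLeft_comp_assoc, hb, hb₀])
      (by rw [MonoidalCategory.whiskerLeft_id, Category.id_comp])
    exact ⟨(Over.forget S).mapIso ⟨a, b, h1, h2⟩, Over.w a⟩
  refine ⟨Z, z, hZ, ⟨fun V hV => ?_⟩, fun hG => ?_, fun hG => ?_⟩
  · obtain ⟨i, -⟩ := hiso ⟨V, hV⟩
    haveI := haff ⟨V, hV⟩
    exact IsAffine.of_isIso i.hom
  · refine IsZariskiLocalAtTarget.of_iSup_eq_top (P := @LocallyOfFiniteType)
      (fun U : S.affineOpens => U.1) (iSup_affineOpens_eq_top S) fun U => ?_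
    obtain ⟨i, hi⟩ := hiso U
    haveI := hft U hG
    haveI : LocallyOfFiniteType ((Z.hom ∣_ U.1) ≫ U.1.ι) := by
      rw [morphismRestrict_ι, ← hi]; infer_instance
    exact locallyOfFiniteType_of_comp (Z.hom ∣_ U.1) U.1.ι
  · refine IsZariskiLocalAtTarget.of_iSup_eq_top (P := @LocallyOfFinitePresentation)
      (fun U : S.affineOpens => U.1) (iSup_affineOpens_eq_top S) fun U => ?_
    obtain ⟨i, hi⟩ := hiso U
    haveI := hfp U hG
    refine MorphismProperty.of_postcomp (W := @LocallyOfFinitePresentation) (W' := @IsOpenImmersion)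
      (Z.hom ∣_ U.1) U.1.ι inferInstance ?_
    rw [morphismRestrict_ι, ← hi]; infer_instance

end Groth.Agent.WeilAff
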