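import Groth.Agent.WeilAff.Global
import Groth.Prelude.Def_AutFam
import Mathlib.AlgebraicGeometry.Morphisms.Separated
import Groth.Agent.S4599

/-!
# Homomorphisms from a finite locally free group into an affine group
-/

set_option autoImplicit false
set_option backward.isDefEq.respectTransparency.types false

universe u

open CategoryTheory CategoryTheory.Limits MonoidalCategory CartesianMonoidalCategory MonObj AlgebraicGeometry

namespace Groth.Agent.WeilAff

variable {S : Scheme.{u}}

/-- Equalizer of two morphisms into a separated `S`-scheme. -/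
theorem exists_equalizer {Z Y : Over S} [IsSeparated Y.hom] (α β : Z ⟶ Y) :
    ∃ (A : Over S) (i : A ⟶ Z), IsClosedImmersion i.left ∧
      (LocallyOfFiniteType Y.hom → LocallyOfFinitePresentation i.left) ∧
      i ≫ α = i ≫ β ∧ ∀ (T : Over S) (f : T ⟶ Z), f ≫ α = f ≫ β → ∃! a : T ⟶ A, a ≫ i = f := by
  let p : Z.left ⟶ pullback Y.hom Y.hom :=
    pullback.lift α.left β.left ((Over.w α).trans (Over.w β).symm)
  let A : Over S := Over.mk (pullback.fst p (pullback.diagonal Y.hom) ≫ Z.hom)
  let i : A ⟶ Z := Over.homMk (pullback.fst p (pullback.diagonal Y.hom)) rfl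
  have hcl : IsClosedImmersion i.left :=
    MorphismProperty.pullback_fst (P := @IsClosedImmersion) _ _ inferInstance
  refine ⟨A, i, hcl, fun h => ?_, ?_, ?_⟩
  · haveI := h
    exact MorphismProperty.pullback_fst (P := @LocallyOfFinitePresentation) _ _
      (Groth.Agent.S4599.result Y.hom)
  · have h1 := congrArg (· ≫ pullback.fst Y.hom Y.hom)
      (pullback.condition (f := p) (g := pullback.diagonal Y.hom))
    have h2 := congrArg (· ≫ pullback.snd Y.hom Y.hom)
      (pullback.condition (f := p) (g := pullback.diagonal Y.hom))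
    simp only [p, Category.assoc, pullback.lift_fst, pullback.lift_snd, pullback.diagonal_fst,
      pullback.diagonal_snd, Category.comp_id] at h1 h2
    exact Over.OverMorphism.ext (h1.trans h2.symm)
  · intro T f hf
    have hf' : f.left ≫ α.left = f.left ≫ β.left := congrArg CommaMorphism.left hf
    have hl : f.left ≫ p = (f.left ≫ α.left) ≫ pullback.diagonal Y.hom := by
      apply pullback.hom_ext
      · simp only [p, Category.assoc, pullback.lift_fst, pullback.diagonal_fst, Category.comp_id]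
      · simp only [p, Category.assoc, pullback.lift_snd, pullback.diagonal_snd, Category.comp_id]
        exact hf'.symm
    refine ⟨Over.homMk (pullback.lift _ _ hl) ?_, Over.OverMorphism.ext (pullback.lift_fst _ _ _),
      fun a ha => ?_⟩
    · change pullback.lift _ _ hl ≫ pullback.fst p _ ≫ Z.hom = T.hom
      rw [pullback.lift_fst_assoc, Over.w f]
    · refine Over.OverMorphism.ext ((cancel_mono i.left).1 ?_)
      exact (congrArg CommaMorphism.left ha).trans (pullback.lift_fst _ _ _).symm

variable (H G : Over S) [GrpObj H] [GrpObj G]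

/-- The product, evaluated by a family. -/
noncomputable def famMul {T : Over S} (φ : H ⊗ T ⟶ G) : (H ⊗ H) ⊗ T ⟶ G :=
  lift ((fst (H ⊗ H) T ≫ fst H H) * (fst (H ⊗ H) T ≫ snd H H)) (snd (H ⊗ H) T) ≫ φ

/-- The product of the values of a family. -/
noncomputable def mulFam {T : Over S} (φ : H ⊗ T ⟶ G) : (H ⊗ H) ⊗ T ⟶ G :=
  (lift (fst (H ⊗ H) T ≫ fst H H) (snd (H ⊗ H) T) ≫ φ) *
    (lift (fst (H ⊗ H) T ≫ snd H H) (snd (H ⊗ H) T) ≫ φ)

theorem isHomFamily_iff {T : Over S} (φ : H ⊗ T ⟶ G) :
    AutFam.IsHomFamily H G φ ↔ famMul H G φ = mulFam H G φ := by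
  refine ⟨fun h => h _ _ _ _, fun h X g₁ g₂ t => ?_⟩
  have := congrArg (lift (lift g₁ g₂) t ≫ ·) h
  simpa only [famMul, mulFam, comp_lift_assoc, comp_lift, MonObj.comp_mul, lift_fst, lift_snd,
    lift_fst_assoc] using this

theorem famMul_comp {T T' : Over S} (φ : H ⊗ T ⟶ G) (f : T' ⟶ T) :
    famMul H G ((H ◁ f) ≫ φ) = ((H ⊗ H) ◁ f) ≫ famMul H G φ := by
  simp only [famMul, comp_lift_assoc, lift_whiskerLeft_assoc, MonObj.comp_mul, whiskerLeft_fst_assoc,
    whiskerLeft_snd]

theorem mulFam_comp {T T' : Over S} (φ : H ⊗ T ⟶ G) (f : T' ⟶ T) :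
    mulFam H G ((H ◁ f) ≫ φ) = ((H ⊗ H) ◁ f) ≫ mulFam H G φ := by
  simp only [mulFam, comp_lift_assoc, lift_whiskerLeft_assoc, MonObj.comp_mul, whiskerLeft_fst_assoc,
    whiskerLeft_snd]

/-- Homomorphisms from a finite locally free group into an affine group form an affine scheme. -/
theorem exists_representsHom [IsFinite H.hom] [Flat H.hom] [LocallyOfFinitePresentation H.hom]
    [IsAffineHom G.hom] :
    ∃ (A : Over S) (υ : H ⊗ A ⟶ G), AutFam.RepresentsHom H G A υ ∧ IsAffineHom A.hom ∧
      (LocallyOfFiniteType G.hom → LocallyOfFiniteType A.hom) ∧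
      (LocallyOfFinitePresentation G.hom → LocallyOfFinitePresentation A.hom) := by
  obtain ⟨Z, z, hZ, hZa, hZt, hZp⟩ := exists_repHom (H := H) (G := G)
  haveI h1 : IsFinite (H ⊗ H).hom := by
    rw [← Over.w (fst H H)]
    haveI : IsFinite (fst H H).left := MorphismProperty.pullback_fst (P := @IsFinite) _ _ inferInstance
    exact MorphismProperty.comp_mem @IsFinite _ _ this inferInstance
  haveI h2 : Flat (H ⊗ H).hom := by
    rw [← Over.w (fst H H)]
    haveI : Flat (fst H H).left := MorphismProperty.pullback_fst (P := @Flat) _ _ inferInstance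
    exact MorphismProperty.comp_mem @Flat _ _ this inferInstance
  haveI h3 : LocallyOfFinitePresentation (H ⊗ H).hom := by
    rw [← Over.w (fst H H)]
    haveI : LocallyOfFinitePresentation (fst H H).left :=
      MorphismProperty.pullback_fst (P := @LocallyOfFinitePresentation) _ _ inferInstance
    exact MorphismProperty.comp_mem @LocallyOfFinitePresentation _ _ this inferInstance
  obtain ⟨Y, y, hY, hYa, hYt, -⟩ := exists_repHom (H := H ⊗ H) (G := G)
  obtain ⟨α, hα, -⟩ := hY Z (famMul H G z)
  obtain ⟨β, hβ, -⟩ := hY Z (mulFam H G z)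
  haveI := hYa
  haveI := hZa
  obtain ⟨A, i, hi, hip, hieq, huniv⟩ := exists_equalizer α β
  have key : ∀ (T : Over S) (f : T ⟶ Z), AutFam.IsHomFamily H G ((H ◁ f) ≫ z) ↔ f ≫ α = f ≫ β := by
    intro T f
    rw [isHomFamily_iff, famMul_comp, mulFam_comp, ← hα, ← hβ, ← whiskerLeft_comp_assoc,
      ← whiskerLeft_comp_assoc]
    exact ⟨fun h => (hY T _).unique h rfl, fun h => by rw [h]⟩
  refine ⟨A, (H ◁ i) ≫ z, ⟨(key A i).2 hieq, fun T φ hφ => ?_⟩, ?_, fun h => ?_, fun h => ?_⟩
  · obtain ⟨f, hf, hfu⟩ := hZ T φ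
    subst hf
    obtain ⟨a, ha, hau⟩ := huniv T f ((key T f).1 hφ)
    refine ⟨a, ?_, fun a' ha' => hau a' (hfu _ ?_)⟩
    · change (H ◁ a) ≫ (H ◁ i) ≫ z = _
      rw [← whiskerLeft_comp_assoc, ha]
    · change (H ◁ (a' ≫ i)) ≫ z = _
      rw [whiskerLeft_comp, Category.assoc]
      exact ha'
  · rw [← Over.w i]
    exact MorphismProperty.comp_mem @IsAffineHom _ _ inferInstance hZa
  · haveI := hZt h
    haveI := hi
    rw [← Over.w i]
    exact MorphismProperty.comp_mem @LocallyOfFiniteType _ _ inferInstance (hZt h)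
  · haveI := h
    haveI := hip (hYt inferInstance)
    rw [← Over.w i]
    exact MorphismProperty.comp_mem @LocallyOfFinitePresentation _ _ this (hZp h)

end Groth.Agent.WeilAff
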