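import Groth.Agent.WeilAff.DiagHomAlg
import Groth.Agent.WeilAff.HomGrp
import Groth.Agent.MultHopf.FreeAct
import Mathlib.RingTheory.Etale.Pi
import Mathlib.AlgebraicGeometry.Morphisms.Etale

/-!
# Homomorphisms between finite diagonalisable groups form a finite étale scheme
-/

set_option autoImplicit false
set_option backward.isDefEq.respectTransparency.types false

universe u

open CategoryTheory CategoryTheory.Limits MonoidalCategory CartesianMonoidalCategory MonObj AlgebraicGeometry
open Groth.Agent.MultHopf WithConv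

namespace Groth.Agent.WeilAff

variable {S : Scheme.{u}} {R : Type u} [CommRing R] (j : Spec (CommRingCat.of R) ⟶ S)

theorem pSMap_bijective [Mono j] (P C : Type u) [CommRing P] [Algebra R P] [CommRing C] [Algebra R C] :
    Function.Bijective (pSMap j (D := P) (D' := C)) :=
  pt_bijective (j := j) P C

theorem pSMap_id (P : Type u) [CommRing P] [Algebra R P] : pSMap j (AlgHom.id R P) = 𝟙 _ := by
  apply Over.OverMorphism.ext
  rw [pSMap_left]
  exact Spec.map_id _

/-- An affine scheme over `ptS j C` is some `ptS j D`. -/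
theorem exists_iso_ptS {C : Type u} [CommRing C] [Algebra R C] {X : Over S} [IsAffine X.left]
    (a : X ⟶ ptS j C) : ∃ (D : Type u) (_ : CommRing D) (_ : Algebra R D), Nonempty (X ≅ ptS j D) := by
  let D : Type u := Γ(X.left, ⊤)
  let t : Spec (CommRingCat.of D) ⟶ Spec (CommRingCat.of R) := X.left.isoSpec.inv ≫ a.left ≫ sp R C
  letI : Algebra R D := (Spec.preimage t).hom.toAlgebra
  have hs : sp R D = t := Spec.map_preimage _
  refine ⟨D, inferInstance, inferInstance, ⟨Over.isoMk X.left.isoSpec ?_⟩⟩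
  change X.left.isoSpec.hom ≫ sp R D ≫ j = X.hom
  rw [hs, ← Over.w a]
  simp only [t, Category.assoc, Iso.hom_inv_id_assoc]
  rfl

section chi

variable {G : Over S} [GrpObj G] {M : Type u} [CommGroup M]
  (eA : Grp.mk (Red.bc j G) ≅ Grp.mk (hspec R (MonoidAlgebra R M)))

/-- Points of a diagonalised group are characters. -/
noncomputable def chE (D : Type u) [CommRing D] [Algebra R D] : (M →* D) ≃ (ptS j D ⟶ G) :=
  (MonoidAlgebra.lift R D M).trans ((WithConv.equiv _).symm.trans (ptEquiv j eA D).symm)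

theorem chE_apply {D : Type u} [CommRing D] [Algebra R D] (χ : M →* D) : chE j eA D χ = chiPt j eA χ := rfl

theorem chE_pSMap {D D' : Type u} [CommRing D] [Algebra R D] [CommRing D'] [Algebra R D'] (f : D →ₐ[R] D')
    (χ : M →* D) : pSMap j f ≫ chE j eA D χ = chE j eA D' ((f : D →* D').comp χ) :=
  chiPt_pSMap j eA f χ

theorem chE_mul {D : Type u} [CommRing D] [Algebra R D] (χ χ' : M →* D) :
    chE j eA D (χ * χ') = chE j eA D χ * chE j eA D χ' :=
  chiPt_mul j eA χ χ'

end chi

variable [Mono j] {G H : Over S} [GrpObj G] [GrpObj H] {M M' : Type u} [CommGroup M] [CommGroup M']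
  (eA : Grp.mk (Red.bc j G) ≅ Grp.mk (hspec R (MonoidAlgebra R M)))
  (eB : Grp.mk (Red.bc j H) ≅ Grp.mk (hspec R (MonoidAlgebra R M')))

/-- The family of group-like elements of a family of morphisms. -/
noncomputable def psi {C : Type u} [CommRing C] [Algebra R C] (φ : G ⊗ ptS j C ⟶ H) :
    M' →* MonoidAlgebra C M :=
  (chE j eB (MonoidAlgebra C M)).symm (lift (chE j eA (MonoidAlgebra C M) (MonoidAlgebra.of C M))
    (pSMap j (IsScalarTower.toAlgHom R C (MonoidAlgebra C M))) ≫ φ)

/-- Evaluation as a map of `R`-algebras. -/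
noncomputable def evalCharₐ {C D : Type u} [CommRing C] [Algebra R C] [CommRing D] [Algebra R D]
    (f : C →ₐ[R] D) (χ : M →* D) : MonoidAlgebra C M →ₐ[R] D :=
  { toRingHom := evalChar f.toRingHom χ
    commutes' := fun r => by
      change evalChar f.toRingHom χ (MonoidAlgebra.single 1 (algebraMap R C r)) = _
      rw [evalChar_single, map_one, _root_.mul_one]
      exact f.commutes r }

theorem psi_spec {C D : Type u} [CommRing C] [Algebra R C] [CommRing D] [Algebra R D]
    (φ : G ⊗ ptS j C ⟶ H) (f : C →ₐ[R] D) (χ : M →* D) :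
    lift (chE j eA D χ) (pSMap j f) ≫ φ =
      chE j eB D ((evalChar f.toRingHom χ : MonoidAlgebra C M →* D).comp (psi j eA eB φ)) := by
  have h1 : chE j eA D χ = pSMap j (evalCharₐ f χ) ≫ chE j eA (MonoidAlgebra C M) (MonoidAlgebra.of C M) := by
    rw [chE_pSMap]
    congr 1
    ext m
    symm
    change evalChar f.toRingHom χ (MonoidAlgebra.single m 1) = χ m
    rw [evalChar_single, map_one, _root_.one_mul]
  have h2 : pSMap j f = pSMap j (evalCharₐ f χ) ≫ pSMap j (IsScalarTower.toAlgHom R C (MonoidAlgebra C M)) := by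
    rw [← pSMap_comp]
    congr 1
    ext c
    symm
    change evalChar f.toRingHom χ (MonoidAlgebra.single 1 c) = f c
    rw [evalChar_single, map_one, _root_.mul_one]
    rfl
  rw [h1, h2, ← comp_lift, Category.assoc,
    ← (chE j eB (MonoidAlgebra C M)).apply_symm_apply
      (lift (chE j eA _ (MonoidAlgebra.of C M)) (pSMap j (IsScalarTower.toAlgHom R C (MonoidAlgebra C M))) ≫ φ),
    chE_pSMap]
  rfl

section affine

variable [IsAffineHom G.hom]

omit [Mono j] in
theorem isAffine_tensor {C : Type u} [CommRing C] [Algebra R C] (X : Over S) [IsAffineHom X.hom] :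
    IsAffine (X ⊗ ptS j C).left := by
  haveI : IsAffine (ptS j C).left := inferInstanceAs (IsAffine (Spec _))
  haveI : IsAffineHom (pullback.snd X.hom (ptS j C).hom) :=
    MorphismProperty.pullback_snd (P := @IsAffineHom) _ _ inferInstance
  exact isAffine_of_isAffineHom (pullback.snd X.hom (ptS j C).hom)

include eA in
theorem exists_model {C : Type u} [CommRing C] [Algebra R C] :
    ∃ (D : Type u) (_ : CommRing D) (_ : Algebra R D) (e : G ⊗ ptS j C ≅ ptS j D)
      (χ : M →* D) (f : C →ₐ[R] D), e.inv = lift (chE j eA D χ) (pSMap j f) := by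
  haveI := isAffine_tensor j (C := C) G
  obtain ⟨D, _, _, ⟨e⟩⟩ := exists_iso_ptS j (snd G (ptS j C))
  obtain ⟨χ, hχ⟩ := (chE j eA D).surjective (e.inv ≫ fst _ _)
  obtain ⟨f, hf⟩ := (pSMap_bijective j C D).2 (e.inv ≫ snd _ _)
  exact ⟨D, inferInstance, inferInstance, e, χ, f, by rw [hχ, hf, ← comp_lift, lift_fst_snd, Category.comp_id]⟩

theorem psi_injective {C : Type u} [CommRing C] [Algebra R C] :
    Function.Injective (psi j eA eB (C := C)) := by
  intro φ φ' h
  obtain ⟨D, _, _, e, χ, f, he⟩ := exists_model j eA (C := C)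
  rw [← cancel_epi e.inv, he, psi_spec j eA eB φ, psi_spec j eA eB φ', h]

theorem psi_surjective {C : Type u} [CommRing C] [Algebra R C] :
    Function.Surjective (psi j eA eB (C := C)) := by
  intro ψ
  obtain ⟨D, _, _, e, χ, f, he⟩ := exists_model j eA (C := C)
  refine ⟨e.hom ≫ chE j eB D ((evalChar f.toRingHom χ : MonoidAlgebra C M →* D).comp ψ), ?_⟩
  obtain ⟨F, hF⟩ := (pSMap_bijective j D (MonoidAlgebra C M)).2
    (lift (chE j eA _ (MonoidAlgebra.of C M)) (pSMap j (IsScalarTower.toAlgHom R C (MonoidAlgebra C M))) ≫ e.hom)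
  have h := congrArg (· ≫ e.inv) hF
  simp only [Category.assoc, Iso.hom_inv_id, Category.comp_id] at h
  rw [he, comp_lift, chE_pSMap, ← pSMap_comp] at h
  have h1 := (chE j eA _).injective (by simpa using congrArg (· ≫ fst _ _) h)
  have h2 := (pSMap_bijective j C (MonoidAlgebra C M)).1 (by simpa using congrArg (· ≫ snd _ _) h)
  rw [psi, Equiv.symm_apply_eq, ← Category.assoc, ← hF, chE_pSMap]
  congr 1
  refine MonoidHom.ext fun g => ?_
  change F (evalChar f.toRingHom χ (ψ g)) = ψ g
  refine RingHom.congr_fun (f := F.toRingHom.comp (evalChar f.toRingHom χ)) (g := RingHom.id _)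
    (MonoidAlgebra.ringHom_ext (fun c => ?_) (fun m => ?_)) (ψ g)
  · change F (evalChar f.toRingHom χ (MonoidAlgebra.single 1 c)) = _
    rw [evalChar_single, map_one, _root_.mul_one]
    exact DFunLike.congr_fun h2 c
  · change F (evalChar f.toRingHom χ (MonoidAlgebra.single m 1)) = _
    rw [evalChar_single, map_one, _root_.one_mul]
    exact DFunLike.congr_fun h1 m

theorem psi_natural {C C' : Type u} [CommRing C] [Algebra R C] [CommRing C'] [Algebra R C'] (p : C →ₐ[R] C')
    (φ : G ⊗ ptS j C ⟶ H) (g : M') :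
    psi j eA eB ((G ◁ pSMap j p) ≫ φ) g = MonoidAlgebra.mapRingHom M p.toRingHom (psi j eA eB φ g) := by
  have h : psi j eA eB ((G ◁ pSMap j p) ≫ φ) =
      (evalChar ((IsScalarTower.toAlgHom R C' (MonoidAlgebra C' M)).comp p).toRingHom
        (MonoidAlgebra.of C' M) : MonoidAlgebra C M →* MonoidAlgebra C' M).comp (psi j eA eB φ) := by
    rw [psi, Equiv.symm_apply_eq, lift_whiskerLeft_assoc, ← pSMap_comp, psi_spec j eA eB φ]
  rw [h]
  refine RingHom.congr_fun (f := evalChar ((IsScalarTower.toAlgHom R C' (MonoidAlgebra C' M)).comp p).toRingHom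
    (MonoidAlgebra.of C' M)) (g := MonoidAlgebra.mapRingHom M p.toRingHom) (MonoidAlgebra.ringHom_ext (fun c => ?_) (fun m => ?_)) _
  · rw [evalChar_single, MonoidAlgebra.mapRingHom_single, map_one, _root_.mul_one]
    rfl
  · rw [evalChar_single, MonoidAlgebra.mapRingHom_single, map_one, map_one, _root_.one_mul]
    rfl

theorem isHomFamily_iff_isCharFam {C : Type u} [CommRing C] [Algebra R C] (φ : G ⊗ ptS j C ⟶ H) :
    AutFam.IsHomFamily G H φ ↔ ∀ (D : Type u) [CommRing D] [Algebra R D] (f : C →ₐ[R] D) (χ₁ χ₂ : M →* D) (g : M'),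
      evalChar f.toRingHom (χ₁ * χ₂) (psi j eA eB φ g) =
        evalChar f.toRingHom χ₁ (psi j eA eB φ g) * evalChar f.toRingHom χ₂ (psi j eA eB φ g) := by
  constructor
  · intro h D _ _ f χ₁ χ₂ g
    have := h (ptS j D) (chE j eA D χ₁) (chE j eA D χ₂) (pSMap j f)
    rw [← chE_mul, psi_spec j eA eB, psi_spec j eA eB, psi_spec j eA eB, ← chE_mul] at this
    exact DFunLike.congr_fun ((chE j eB D).injective this) g
  · intro h
    rw [isHomFamily_iff]
    haveI : IsAffineHom (G ⊗ G).hom := by
      rw [← Over.w (fst G G)]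
      haveI : IsAffineHom (fst G G).left := MorphismProperty.pullback_fst (P := @IsAffineHom) _ _ inferInstance
      exact MorphismProperty.comp_mem @IsAffineHom _ _ this inferInstance
    haveI := isAffine_tensor j (C := C) (G ⊗ G)
    obtain ⟨D, _, _, ⟨e⟩⟩ := exists_iso_ptS j (snd (G ⊗ G) (ptS j C))
    obtain ⟨χ₁, hχ₁⟩ := (chE j eA D).surjective (e.inv ≫ fst _ _ ≫ fst _ _)
    obtain ⟨χ₂, hχ₂⟩ := (chE j eA D).surjective (e.inv ≫ fst _ _ ≫ snd _ _)
    obtain ⟨f, hf⟩ := (pSMap_bijective j C D).2 (e.inv ≫ snd _ _)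
    rw [← cancel_epi e.inv]
    simp only [famMul, mulFam, comp_lift_assoc, MonObj.comp_mul, ← hχ₁, ← hχ₂, ← hf]
    rw [← chE_mul, psi_spec j eA eB, psi_spec j eA eB, psi_spec j eA eB, ← chE_mul]
    congr 1
    ext g
    exact h D f χ₁ χ₂ g

theorem isCharFam_psi {C : Type u} [CommRing C] [Algebra R C] (φ : G ⊗ ptS j C ⟶ H)
    (h : AutFam.IsHomFamily G H φ) : IsCharFam (psi j eA eB φ) := by
  intro D _ f χ₁ χ₂ g
  letI : Algebra R D := (f.comp (algebraMap R C)).toAlgebra
  exact (isHomFamily_iff_isCharFam j eA eB φ).1 h D { toRingHom := f, commutes' := fun _ => rfl } χ₁ χ₂ g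

variable [Finite M] [Finite M']

include eA eB in
/-- The scheme of homomorphisms is finite étale over a chart on which both groups are diagonal. -/
theorem finite_etale_of_chart (A : Over S) (υ : G ⊗ A ⟶ H) (hυ : AutFam.RepresentsHom G H A υ)
    [IsAffineHom A.hom] : IsFinite (pullback.snd A.hom j) ∧ Etale (pullback.snd A.hom j) := by
  classical
  haveI : Finite (M' →* M) := Finite.of_injective (fun θ => (θ : M' → M)) DFunLike.coe_injective
  cases nonempty_fintype (M' →* M)
  cases nonempty_fintype M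
  cases nonempty_fintype M'
  let ψ₀ : M' →* MonoidAlgebra ((M' →* M) → R) M :=
    { toFun := fun g => ∑ θ : M' →* M, MonoidAlgebra.single (θ g) (Pi.single θ (1 : R) : ((M' →* M) → R))
      map_one' := by
        simp only [map_one]
        rw [MonoidAlgebra.one_def]
        refine (map_sum (MonoidAlgebra.singleAddHom (R := ((M' →* M) → R)) (1 : M)) _ _).symm.trans ?_
        change MonoidAlgebra.single 1 _ = _
        rw [Finset.univ_sum_single (fun _ : M' →* M => (1 : R))]
        rfl
      map_mul' := fun a b => by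
        rw [Finset.sum_mul]
        simp only [Finset.mul_sum, MonoidAlgebra.single_mul_single, map_mul]
        refine Finset.sum_congr rfl fun θ _ => ?_
        rw [Finset.sum_eq_single θ]
        · rw [← Pi.single_mul, _root_.one_mul]
        · intro θ' _ hne
          rw [show (Pi.single θ (1 : R) : ((M' →* M) → R)) * Pi.single θ' 1 = 0 from ?_, MonoidAlgebra.single_zero]
          ext i
          simp only [Pi.mul_apply, Pi.single_apply, Pi.zero_apply]
          split_ifs with h1 h2 <;> simp_all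
        · simp }
  obtain ⟨φ₀, hφ₀⟩ := psi_surjective j eA eB ψ₀
  have hφ₀' : AutFam.IsHomFamily G H φ₀ := by
    refine (isHomFamily_iff_isCharFam j eA eB φ₀).2 fun D _ _ f χ₁ χ₂ g => ?_
    rw [hφ₀]
    simp only [ψ₀, MonoidHom.coe_mk, OneHom.coe_mk, map_sum, evalChar_single, Finset.sum_mul,
      Finset.mul_sum, MonoidHom.mul_apply]
    refine Finset.sum_congr rfl fun θ _ => ?_
    rw [Finset.sum_eq_single θ]
    · rw [_root_.mul_mul_mul_comm, ← map_mul, ← Pi.single_mul, _root_.one_mul]
    · intro θ' _ hne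
      rw [_root_.mul_mul_mul_comm, ← map_mul, show (Pi.single θ' (1 : R) : ((M' →* M) → R)) * Pi.single θ 1 = 0 from ?_, map_zero,
        MulZeroClass.zero_mul]
      ext i
      simp only [Pi.mul_apply, Pi.single_apply, Pi.zero_apply]
      split_ifs with h1 h2 <;> simp_all
    · simp
  obtain ⟨a₀, ha₀, -⟩ := hυ.2 _ φ₀ hφ₀'
  haveI := isAffine_tensor j (C := R) A
  obtain ⟨Q, _, _, ⟨e⟩⟩ := exists_iso_ptS j (snd A (ptS j R))
  let aQ : ptS j Q ⟶ A := e.inv ≫ fst _ _
  have hφQ : AutFam.IsHomFamily G H ((G ◁ aQ) ≫ υ) := fun X g₁ g₂ t => by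
    simp only [lift_whiskerLeft_assoc]
    exact hυ.1 X g₁ g₂ _
  let ψQ := psi j eA eB ((G ◁ aQ) ≫ υ)
  obtain ⟨hE, hE1⟩ := IsCharFam.exists_idem ψQ (isCharFam_psi j eA eB _ hφQ)
  let E : (M' →* M) → Q := fun θ => ∏ a, (ψQ a).coeff (θ a)
  have hEE : ∀ θ θ', E θ * E θ' = if θ = θ' then E θ else 0 := by
    intro θ θ'
    by_cases h : θ = θ'
    · subst h
      rw [if_pos rfl]
      change (∏ a, (ψQ a).coeff (θ a)) * E θ = E θ
      refine Finset.prod_induction _ (fun x => x * E θ = E θ) (fun x y hx hy => ?_) (_root_.one_mul _) fun a _ => ?_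
      · change x * y * E θ = E θ
        rw [_root_.mul_assoc, hy, hx]
      · simpa [E] using hE a θ (θ a)
    · rw [if_neg h]
      obtain ⟨g, hg⟩ := DFunLike.ne_iff.1 h
      have h1 : (ψQ g).coeff (θ g) * E θ = E θ := by simpa [E] using hE g θ (θ g)
      have h2 : (ψQ g).coeff (θ g) * E θ' = 0 := by simpa [E, Ne.symm hg] using hE g θ' (θ g)
      rw [← h1, _root_.mul_comm ((ψQ g).coeff (θ g)), _root_.mul_assoc, h2, MulZeroClass.mul_zero]
  let p : ((M' →* M) → R) →ₐ[R] Q :=
    { toFun := fun x => ∑ θ, algebraMap R Q (x θ) * E θ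
      map_one' := by simpa [E] using hE1
      map_mul' := fun x y => by
        rw [Finset.sum_mul]
        simp only [Finset.mul_sum]
        refine Finset.sum_congr rfl fun θ _ => ?_
        rw [Finset.sum_eq_single θ]
        · rw [_root_.mul_mul_mul_comm, hEE, if_pos rfl, Pi.mul_apply, map_mul]
        · intro θ' _ hne
          rw [_root_.mul_mul_mul_comm, hEE, if_neg (Ne.symm hne), MulZeroClass.mul_zero]
        · simp
      map_zero' := by simp
      map_add' := fun x y => by simp [_root_.add_mul, Finset.sum_add_distrib]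
      commutes' := fun r => by
        simp only [Pi.algebraMap_apply, Algebra.algebraMap_self, RingHom.id_apply, ← Finset.mul_sum]
        rw [show ∑ θ, E θ = 1 from hE1, _root_.mul_one] }
  have hp : ∀ θ, p (Pi.single θ 1) = E θ := fun θ => by
    change (∑ θ', algebraMap R Q ((Pi.single θ (1 : R) : ((M' →* M) → R)) θ') * E θ') = E θ
    rw [Finset.sum_eq_single θ] <;> simp +contextual [Pi.single_apply]
  have hψ₀ : ∀ g m, (ψ₀ g).coeff m = ∑ θ : M' →* M, if θ g = m then (Pi.single θ 1 : ((M' →* M) → R)) else 0 := fun g m => by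
    simp [ψ₀, MonoidAlgebra.coeff_sum, Finsupp.single_apply]
  -- the universal family is pulled back from the constant scheme
  have hQ : (G ◁ pSMap j p) ≫ φ₀ = (G ◁ aQ) ≫ υ := by
    refine psi_injective j eA eB (MonoidHom.ext fun g => MonoidAlgebra.coeff_injective (Finsupp.ext fun m => ?_))
    rw [psi_natural, hφ₀, MonoidAlgebra.coeff_mapRingHom, hψ₀]
    change p _ = (ψQ g).coeff m
    rw [map_sum, ← _root_.mul_one ((ψQ g).coeff m), ← hE1, Finset.mul_sum]
    refine Finset.sum_congr rfl fun θ _ => ?_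
    rw [apply_ite p, hp, map_zero, hE]
  have haQ : pSMap j p ≫ a₀ = aQ := by
    obtain ⟨b, -, hb⟩ := hυ.2 _ _ hφQ
    rw [hb aQ rfl, hb (pSMap j p ≫ a₀) (by
      change (G ◁ (pSMap j p ≫ a₀)) ≫ υ = _
      rw [whiskerLeft_comp, Category.assoc, ha₀, hQ])]
  let b₀ : ptS j ((M' →* M) → R) ⟶ A ⊗ ptS j R := lift a₀ (pSMap j (Algebra.ofId R ((M' →* M) → R)))
  obtain ⟨v, hv⟩ := (pSMap_bijective j Q ((M' →* M) → R)).2 (b₀ ≫ e.hom)
  have hsub : ∀ {X : Type u} [CommRing X] [Algebra R X] (x y : ptS j X ⟶ ptS j R), x = y := fun x y => by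
    obtain ⟨x', rfl⟩ := (pSMap_bijective j R _).2 x
    obtain ⟨y', rfl⟩ := (pSMap_bijective j R _).2 y
    rw [Subsingleton.elim x' y']
  have hva : pSMap j v ≫ aQ = a₀ := by
    simp [hv, aQ, b₀]
  have hvp : v.comp p = AlgHom.id R ((M' →* M) → R) := by
    have hvE : ∀ θ, v (E θ) = Pi.single θ 1 := by
      intro θ
      have h : ∀ g m, v ((ψQ g).coeff m) = (ψ₀ g).coeff m := fun g m => by
        rw [← hφ₀, ← ha₀, ← hva, whiskerLeft_comp, Category.assoc, psi_natural, MonoidAlgebra.coeff_mapRingHom]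
        rfl
      change v (∏ a, (ψQ a).coeff (θ a)) = _
      rw [map_prod, Finset.prod_congr rfl fun a _ => h a (θ a)]
      funext θ'
      simp only [hψ₀, Finset.prod_apply, Finset.sum_apply]
      rw [Finset.prod_congr rfl fun a _ => Finset.sum_eq_single θ' (fun b _ hb => ?_) (by simp)]
      · by_cases hθ : θ' = θ
        · subst hθ; simp
        · obtain ⟨g, hg⟩ := DFunLike.ne_iff.1 hθ
          rw [Pi.single_eq_of_ne hθ]
          exact Finset.prod_eq_zero (Finset.mem_univ g) (by simp [hg])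
      · split_ifs <;> simp [Ne.symm hb]
    refine AlgHom.ext fun x => ?_
    rw [AlgHom.comp_apply, AlgHom.id_apply]
    change v (∑ θ, algebraMap R Q (x θ) * E θ) = x
    simp only [map_sum, map_mul, AlgHom.commutes, hvE]
    funext θ
    simp [Finset.sum_apply, Pi.single_apply]
  have h1 : (e.hom ≫ pSMap j p) ≫ b₀ = 𝟙 _ := by
    apply CartesianMonoidalCategory.hom_ext
    · simp only [b₀, Category.assoc, lift_fst, haQ, aQ, Iso.hom_inv_id_assoc, Category.id_comp]
    · rw [← cancel_epi e.inv]
      exact hsub _ _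
  have h2 : b₀ ≫ e.hom ≫ pSMap j p = 𝟙 _ := by
    rw [← Category.assoc, ← hv, ← pSMap_comp, hvp, pSMap_id]
  let i : A ⊗ ptS j R ≅ ptS j ((M' →* M) → R) := ⟨e.hom ≫ pSMap j p, b₀, h1, h2⟩
  have hsnd : i.hom ≫ pSMap j (Algebra.ofId R ((M' →* M) → R)) = snd A (ptS j R) := by
    rw [← cancel_epi e.inv]
    exact hsub _ _
  have hfin : IsFinite (pSMap j (Algebra.ofId R ((M' →* M) → R))).left := by
    rw [pSMap_left]
    exact (IsFinite.SpecMap_iff _).2 (RingHom.finite_algebraMap.2 (inferInstance : Module.Finite R ((M' →* M) → R)))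
  have het : Etale (pSMap j (Algebra.ofId R ((M' →* M) → R))).left := by
    rw [pSMap_left]
    exact (HasRingHomProperty.Spec_iff (P := @Etale)).2
      (RingHom.etale_algebraMap.2 (inferInstance : Algebra.Etale R ((M' →* M) → R)))
  have key : ∀ (P : MorphismProperty Scheme.{u}) [P.RespectsIso],
      P (pSMap j (Algebra.ofId R ((M' →* M) → R))).left → P (pullback.snd A.hom j) := by
    intro P _ hP
    have hh : (ptS j R).hom = j := by
      change Spec.map _ ≫ j = j
      simp [Algebra.algebraMap_self]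
    have h3 : P (pullback.snd A.hom (ptS j R).hom) := by
      change P (snd A (ptS j R)).left
      rw [← hsnd, Over.comp_left]
      haveI : IsIso i.hom.left := ((Over.forget S).mapIso i).isIso_hom
      exact (P.cancel_left_of_respectsIso _ _).2 hP
    exact hh ▸ h3
  exact ⟨key @IsFinite hfin, key @Etale het⟩

end affine

end Groth.Agent.WeilAff
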