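import Groth.Agent.MultHopf.FreeAct
import Groth.Prelude.Def_AutFam

/-!
# Base change of schemes of homomorphisms
-/

set_option autoImplicit false
set_option backward.isDefEq.respectTransparency.types false

universe u

open CategoryTheory CategoryTheory.Limits MonoidalCategory CartesianMonoidalCategory MonObj AlgebraicGeometry
open Groth.Agent.MultHopf

namespace Groth.Agent.WeilAff

variable {S U : Scheme.{u}} (q : U ⟶ S) {G H : Over S} [GrpObj G] [GrpObj H]

/-- Transfer of a family to the base change. -/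
noncomputable def toBC {Z : Over U} (φ : G ⊗ (Over.map q).obj Z ⟶ H) : Red.bc q G ⊗ Z ⟶ Red.bc q H :=
  adjMulEquiv q _ H (lift ((adjMulEquiv q _ G).symm (fst (Red.bc q G) Z)) ((Over.map q).map (snd (Red.bc q G) Z)) ≫ φ)

omit [GrpObj H] in
theorem adjMulEquiv_comp {X' X : Over U} (k : X' ⟶ X) [GrpObj H] (y : (Over.map q).obj X ⟶ H) :
    adjMulEquiv q X' H ((Over.map q).map k ≫ y) = k ≫ adjMulEquiv q X H y :=
  (Over.mapPullbackAdj q).homEquiv_naturality_left k y

theorem adjMulEquiv_symm_comp {X' X : Over U} (k : X' ⟶ X) (y : X ⟶ Red.bc q G) :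
    (adjMulEquiv q X' G).symm (k ≫ y) = (Over.map q).map k ≫ (adjMulEquiv q X G).symm y :=
  (Over.mapPullbackAdj q).homEquiv_naturality_left_symm k y

theorem lift_toBC {Z X : Over U} (φ : G ⊗ (Over.map q).obj Z ⟶ H) (g : X ⟶ Red.bc q G) (t : X ⟶ Z) :
    lift g t ≫ toBC q φ =
      adjMulEquiv q X H (lift ((adjMulEquiv q X G).symm g) ((Over.map q).map t) ≫ φ) := by
  rw [toBC, ← adjMulEquiv_comp, comp_lift_assoc, ← adjMulEquiv_symm_comp, lift_fst, ← Functor.map_comp, lift_snd]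

theorem toBC_natural {Z Z' : Over U} (k : Z' ⟶ Z) (φ : G ⊗ (Over.map q).obj Z ⟶ H) :
    (Red.bc q G ◁ k) ≫ toBC q φ = toBC q ((G ◁ (Over.map q).map k) ≫ φ) := by
  conv_rhs => rw [← Category.id_comp (toBC q _), ← lift_fst_snd, lift_toBC, lift_whiskerLeft_assoc,
    ← Functor.map_comp]
  conv_lhs => rw [← Category.id_comp ((Red.bc q G ◁ k) ≫ _), ← lift_fst_snd, lift_whiskerLeft_assoc, lift_toBC]

/-- A scheme over `S` with a map to a scheme over `U`. -/
theorem exists_over_base {X : Over S} {Z : Over U} (t : X ⟶ (Over.map q).obj Z) :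
    ∃ (X' : Over U) (i : (Over.map q).obj X' ≅ X) (t' : X' ⟶ Z), i.hom ≫ t = (Over.map q).map t' := by
  refine ⟨Over.mk (t.left ≫ Z.hom), Over.isoMk (Iso.refl _) ?_, Over.homMk t.left rfl, ?_⟩
  · change 𝟙 _ ≫ X.hom = (t.left ≫ Z.hom) ≫ q
    rw [Category.id_comp, Category.assoc]
    exact (Over.w t).symm
  · exact Over.OverMorphism.ext (Category.id_comp _)

theorem lift_eq_of_toBC {Z : Over U} (φ : G ⊗ (Over.map q).obj Z ⟶ H) {X' : Over U} (g : (Over.map q).obj X' ⟶ G)
    (t : X' ⟶ Z) : lift g ((Over.map q).map t) ≫ φ =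
      (adjMulEquiv q X' H).symm (lift (adjMulEquiv q X' G g) t ≫ toBC q φ) := by
  rw [lift_toBC, MulEquiv.symm_apply_apply, MulEquiv.symm_apply_apply]

theorem toBC_injective {Z : Over U} : Function.Injective (toBC q (G := G) (H := H) (Z := Z)) := by
  intro φ φ' h
  obtain ⟨X', i, t', ht⟩ := exists_over_base q (snd G ((Over.map q).obj Z))
  rw [← cancel_epi i.hom, ← Category.id_comp φ, ← Category.id_comp φ', ← lift_fst_snd, comp_lift_assoc,
    comp_lift_assoc, ht, lift_eq_of_toBC, lift_eq_of_toBC, h]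

theorem toBC_surjective {Z : Over U} : Function.Surjective (toBC q (G := G) (H := H) (Z := Z)) := by
  intro ψ
  obtain ⟨X', i, t', ht⟩ := exists_over_base q (snd G ((Over.map q).obj Z))
  refine ⟨i.inv ≫ (adjMulEquiv q X' H).symm (lift (adjMulEquiv q X' G (i.hom ≫ fst _ _)) t' ≫ ψ), ?_⟩
  let x : (Over.map q).obj (Red.bc q G ⊗ Z) ⟶ G ⊗ (Over.map q).obj Z :=
    lift ((adjMulEquiv q _ G).symm (fst (Red.bc q G) Z)) ((Over.map q).map (snd (Red.bc q G) Z))
  let k : Red.bc q G ⊗ Z ⟶ X' := Over.homMk (x ≫ i.inv).left (by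
    change (x ≫ i.inv).left ≫ X'.hom = _
    have h1 : (x ≫ i.inv) ≫ (Over.map q).map t' = (Over.map q).map (snd (Red.bc q G) Z) := by
      rw [← ht, Category.assoc, Iso.inv_hom_id_assoc, lift_snd]
    have h2 : (x ≫ i.inv).left ≫ t'.left = (snd (Red.bc q G) Z).left := congrArg CommaMorphism.left h1
    rw [← Over.w t', ← Category.assoc, h2, Over.w])
  have hk : x ≫ i.inv = (Over.map q).map k := Over.OverMorphism.ext rfl
  have hk1 : k ≫ adjMulEquiv q X' G (i.hom ≫ fst _ _) = fst (Red.bc q G) Z := by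
    rw [← adjMulEquiv_comp q k, ← hk]
    simp [x]
  have hk2 : k ≫ t' = snd (Red.bc q G) Z := by
    apply Over.OverMorphism.ext
    have : (Over.map q).map k ≫ (Over.map q).map t' = (Over.map q).map (snd (Red.bc q G) Z) := by
      rw [← hk, ← ht]; simp [x]
    have := congrArg CommaMorphism.left this
    exact this
  change adjMulEquiv q _ H (x ≫ i.inv ≫ _) = ψ
  rw [← Category.assoc, hk, ← adjMulEquiv_symm_comp, comp_lift_assoc, hk1, hk2, lift_fst_snd, Category.id_comp,
    MulEquiv.apply_symm_apply]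

theorem isHomFamily_toBC {Z : Over U} (φ : G ⊗ (Over.map q).obj Z ⟶ H) :
    AutFam.IsHomFamily (Red.bc q G) (Red.bc q H) (toBC q φ) ↔ AutFam.IsHomFamily G H φ := by
  constructor
  · intro h X g₁ g₂ t
    obtain ⟨X', i, t', ht⟩ := exists_over_base q t
    rw [← cancel_epi i.hom]
    simp only [comp_lift_assoc, MonObj.comp_mul, ht, lift_eq_of_toBC, map_mul]
    exact (congrArg _ (h _ _ _ _)).trans (map_mul _ _ _)
  · intro h X g₁ g₂ t
    simp only [lift_toBC, map_mul, h _ _ _ _]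

/-- Base change of a scheme of homomorphisms. -/
theorem representsHom_bc {A : Over S} (υ : G ⊗ A ⟶ H) (hυ : AutFam.RepresentsHom G H A υ) :
    ∃ υ' : Red.bc q G ⊗ Red.bc q A ⟶ Red.bc q H,
      AutFam.RepresentsHom (Red.bc q G) (Red.bc q H) (Red.bc q A) υ' := by
  let ε : (Over.map q).obj (Red.bc q A) ⟶ A := (Over.mapPullbackAdj q).counit.app A
  refine ⟨toBC q ((G ◁ ε) ≫ υ), (isHomFamily_toBC q _).2 fun X g₁ g₂ t => ?_, fun Z ψ hψ => ?_⟩
  · simp only [lift_whiskerLeft_assoc]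
    exact hυ.1 X g₁ g₂ _
  · obtain ⟨φ, rfl⟩ := toBC_surjective q ψ
    obtain ⟨a, ha, hau⟩ := hυ.2 _ φ ((isHomFamily_toBC q φ).1 hψ)
    have key : ∀ b : Z ⟶ Red.bc q A, (Red.bc q G ◁ b) ≫ toBC q ((G ◁ ε) ≫ υ) =
        toBC q ((G ◁ ((Over.mapPullbackAdj q).homEquiv Z A).symm b) ≫ υ) := fun b => by
      rw [toBC_natural, ← whiskerLeft_comp_assoc, Adjunction.homEquiv_counit]
    refine ⟨(Over.mapPullbackAdj q).homEquiv Z A a, ?_, fun b hb => ?_⟩
    · change _ = toBC q φ
      rw [key, Equiv.symm_apply_apply, ha]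
    · change _ = toBC q φ at hb
      rw [key] at hb
      rw [← hau _ (toBC_injective q hb), Equiv.apply_symm_apply]

end Groth.Agent.WeilAff
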