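import Groth.Agent.WeilAff.Global
import Groth.Prelude.Def_Flatn

/-!
# The functor of relative morphisms from a finite locally free scheme into an affine one
-/

set_option autoImplicit false
set_option linter.style.haveILetI false

universe u

open CategoryTheory CategoryTheory.Limits MonoidalCategory CartesianMonoidalCategory AlgebraicGeometry Opposite

namespace Groth.Agent.WeilAff

variable {X S Z : Scheme.{u}}

/-- `T ×_S Z` is the product with `Z` in schemes over `S`. -/
noncomputable def prodIso (g : Z ⟶ S) (T : Over S) :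
    (Over.map g).obj ((Over.pullback g).obj T) ≅ Over.mk g ⊗ T :=
  Over.isoMk (pullbackSymmetry _ _) (by
    change (pullbackSymmetry T.hom g).hom ≫ pullback.fst g T.hom ≫ g = pullback.snd T.hom g ≫ g
    rw [pullbackSymmetry_hom_comp_fst_assoc])

theorem prodIso_naturality (g : Z ⟶ S) {T T' : Over S} (φ : T ⟶ T') :
    (Over.map g).map ((Over.pullback g).map φ) ≫ (prodIso g T').hom = (prodIso g T).hom ≫ (Over.mk g ◁ φ) := by
  refine Over.OverMorphism.ext (pullback.hom_ext ?_ ?_)
  · simp only [prodIso, Over.comp_left, Over.isoMk_hom_left, Over.map_map_left, Over.pullback_map_left, Category.assoc]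
    erw [pullbackSymmetry_hom_comp_fst, Over.whiskerLeft_left_fst, pullbackSymmetry_hom_comp_fst, pullback.lift_snd]
  · simp only [prodIso, Over.comp_left, Over.isoMk_hom_left, Over.map_map_left, Over.pullback_map_left, Category.assoc]
    erw [pullbackSymmetry_hom_comp_snd, Over.whiskerLeft_left_snd, pullbackSymmetry_hom_comp_snd_assoc, pullback.lift_fst]

/-- `Mor_S(Z, X)` is representable by a scheme affine over `S`, for `Z` finite locally free and `X` affine over `S`. -/
theorem exists_morS (g : Z ⟶ S) (f : X ⟶ S) [IsFinite g] [Flat g] [LocallyOfFinitePresentation g] [IsAffineHom f] :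
    ∃ W : Over S, IsAffineHom W.hom ∧ Nonempty ((Flatn.morS g f).RepresentableBy W) := by
  haveI : IsFinite (Over.mk g).hom := ‹IsFinite g›
  haveI : Flat (Over.mk g).hom := ‹Flat g›
  haveI : LocallyOfFinitePresentation (Over.mk g).hom := ‹LocallyOfFinitePresentation g›
  haveI : IsAffineHom (Over.mk f).hom := ‹IsAffineHom f›
  obtain ⟨W, w, hW, haff, -, -⟩ := exists_repHom (H := Over.mk g) (G := Over.mk f)
  refine ⟨W, haff, ⟨?_⟩⟩
  have hbij : ∀ T : Over S, Function.Bijective
      (fun v : T ⟶ W => ((prodIso g T).hom ≫ (Over.mk g ◁ v) ≫ w : (Over.map g).obj ((Over.pullback g).obj T) ⟶ Over.mk f)) := by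
    refine fun T => ⟨fun v v' h => (hW T ((Over.mk g ◁ v) ≫ w)).unique rfl ((cancel_epi (prodIso g T).hom).1 h).symm,
      fun φ => ?_⟩
    obtain ⟨v, hv, -⟩ := hW T ((prodIso g T).inv ≫ φ)
    exact ⟨v, by change _ ≫ (Over.mk g ◁ v) ≫ w = φ; rw [hv, Iso.hom_inv_id_assoc]⟩
  exact
    { homEquiv := fun {T} => Equiv.ofBijective _ (hbij T)
      homEquiv_comp := fun {T T'} φ v => by
        change (prodIso g T).hom ≫ (Over.mk g ◁ (φ ≫ v)) ≫ w =
          (Over.map g).map ((Over.pullback g).map φ) ≫ (prodIso g T').hom ≫ (Over.mk g ◁ v) ≫ w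
        rw [reassoc_of% (prodIso_naturality g φ), MonoidalCategory.whiskerLeft_comp, Category.assoc] }

end Groth.Agent.WeilAff
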