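import Mathlib.RingTheory.FinitePresentation
import Mathlib.RingTheory.TensorProduct.Maps
import Mathlib.LinearAlgebra.TensorProduct.Basic
import Mathlib.Algebra.Module.Projective
import Mathlib.RingTheory.Finiteness.Projective

/-!
# The Weil restriction of an algebra along a finite projective ring extension
-/

set_option autoImplicit false

universe u

open TensorProduct

namespace Groth.Agent.WeilAff

variable {R A B : Type u} [CommRing R] [CommRing A] [Algebra R A] [CommRing B] [Algebra A B]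

/-- The coordinate of `A ⊗ T` along a linear form on `A`. -/
noncomputable def coord (l : A →ₗ[R] R) (T : Type u) [CommRing T] [Algebra R T] : A ⊗[R] T →ₗ[R] T :=
  (TensorProduct.lid R T).toLinearMap ∘ₗ l.rTensor T

theorem coord_map (l : A →ₗ[R] R) {T T' : Type u} [CommRing T] [Algebra R T] [CommRing T'] [Algebra R T']
    (w : T →ₐ[R] T') (z : A ⊗[R] T) :
    coord l T' (Algebra.TensorProduct.map (AlgHom.id A A) w z) = w (coord l T z) := by
  induction z with
  | zero => simp
  | tmul a t => simp [coord]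
  | add x y hx hy => simp only [map_add, hx, hy]

theorem sum_tmul_coord {n : ℕ} (a : Fin n → A) (l : Fin n → A →ₗ[R] R) (hl : ∀ x, ∑ i, l i x • a i = x)
    {T : Type u} [CommRing T] [Algebra R T] (z : A ⊗[R] T) : ∑ i, a i ⊗ₜ[R] coord (l i) T z = z := by
  induction z with
  | zero => simp
  | tmul x t =>
    have h : ∀ i, a i ⊗ₜ[R] coord (l i) T (x ⊗ₜ t) = (l i x • a i) ⊗ₜ[R] t := fun i => by
      rw [TensorProduct.smul_tmul]; rfl
    rw [Finset.sum_congr rfl fun i _ => h i, ← TensorProduct.sum_tmul, hl]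
  | add x y hx hy => simp only [map_add, TensorProduct.tmul_add, Finset.sum_add_distrib, hx, hy]

variable {n : ℕ} (a : Fin n → A) (l : Fin n → A →ₗ[R] R) (hl : ∀ x, ∑ i, l i x • a i = x)
  (σ : Type u) (π : MvPolynomial σ A →ₐ[A] B) (hπ : Function.Surjective π)

/-- The universal point of the restriction of affine space. -/
noncomputable def generic : MvPolynomial σ A →ₐ[A] A ⊗[R] MvPolynomial (σ × Fin n) R :=
  MvPolynomial.aeval fun s => ∑ i, a i ⊗ₜ[R] MvPolynomial.X (s, i)

theorem exists_factor {R' P C D : Type u} [CommRing R'] [CommRing P] [Algebra R' P] [CommRing C] [Algebra R' C]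
    [CommRing D] [Algebra R' D] (f : P →ₐ[R'] C) (hf : Function.Surjective f) (g : P →ₐ[R'] D)
    (h : ∀ x, f x = 0 → g x = 0) : ∃ u : C →ₐ[R'] D, ∀ x, u (f x) = g x :=
  ⟨AlgHom.liftOfSurjective f hf g h, AlgHom.liftOfSurjective_apply f hf g h⟩

include hl hπ in
theorem exists_universal_aux (J : Ideal (MvPolynomial (σ × Fin n) R))
    (hker : ∀ x, π x = 0 →
      (Algebra.TensorProduct.map (AlgHom.id A A) (Ideal.Quotient.mkₐ R J)).comp (generic a σ) x = 0)
    (hX : ∀ s i, Ideal.Quotient.mkₐ R J (MvPolynomial.X (s, i)) = Ideal.Quotient.mkₐ R J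
      (coord (l i) (MvPolynomial (σ × Fin n) R) (generic a σ (MvPolynomial.X s))))
    (g : Set (MvPolynomial σ A)) (hgz : ∀ x ∈ g, π x = 0)
    (hJ : ∀ p ∈ J, ∀ (T : Type u) [CommRing T] [Algebra R T] (v : MvPolynomial (σ × Fin n) R →ₐ[R] T),
      (∀ x ∈ g, ∀ i, v (coord (l i) (MvPolynomial (σ × Fin n) R) (generic a σ x)) = 0) →
      (∀ s i, v (MvPolynomial.X (s, i)) = v (coord (l i) (MvPolynomial (σ × Fin n) R) (generic a σ (MvPolynomial.X s)))) →
      v p = 0)
    : ∃ u : B →ₐ[A] A ⊗[R] (MvPolynomial (σ × Fin n) R ⧸ J), ∀ (T : Type u) [CommRing T] [Algebra R T]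
      (ψ : B →ₐ[A] A ⊗[R] T), ∃! w : (MvPolynomial (σ × Fin n) R ⧸ J) →ₐ[R] T,
      (Algebra.TensorProduct.map (AlgHom.id A A) w).comp u = ψ := by
  have hu₀ : ∀ x, ((Algebra.TensorProduct.map (AlgHom.id A A) (Ideal.Quotient.mkₐ R J)).comp (generic a σ)) x =
      Algebra.TensorProduct.map (AlgHom.id A A) (Ideal.Quotient.mkₐ R J) (generic a σ x) := fun _ => rfl
  obtain ⟨u, hu⟩ := exists_factor (R' := A) (P := MvPolynomial σ A) (C := B)
    (D := A ⊗[R] (MvPolynomial (σ × Fin n) R ⧸ J)) π hπ ((Algebra.TensorProduct.map (AlgHom.id A A)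
    (Ideal.Quotient.mkₐ R J)).comp (generic a σ)) hker
  refine ⟨u, fun T _ _ ψ => ?_⟩
  let v : MvPolynomial (σ × Fin n) R →ₐ[R] T :=
    MvPolynomial.aeval fun x => coord (l x.2) T (ψ (π (MvPolynomial.X x.1)))
  have hv : ∀ x, Algebra.TensorProduct.map (AlgHom.id A A) v (generic a σ x) = ψ (π x) := by
    refine fun x => AlgHom.congr_fun (φ₁ := (Algebra.TensorProduct.map (AlgHom.id A A) v).comp (generic a σ))
      (φ₂ := ψ.comp π) (MvPolynomial.algHom_ext fun s => ?_) x
    simp only [AlgHom.comp_apply, generic, MvPolynomial.aeval_X, map_sum, Algebra.TensorProduct.map_tmul,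
      AlgHom.id_apply]
    conv_rhs => rw [← sum_tmul_coord a l hl (ψ (π (MvPolynomial.X s)))]
    exact Finset.sum_congr rfl fun i _ => by rw [MvPolynomial.aeval_X]
  have hvJ : ∀ p ∈ J, v p = 0 := fun p hp => hJ p hp T v
    (fun x hx i => by rw [← coord_map, hv, hgz x hx, map_zero, map_zero])
    (fun s i => by rw [← coord_map, hv, MvPolynomial.aeval_X])
  refine ⟨Ideal.Quotient.liftₐ J v hvJ, ?_, fun w hw => ?_⟩
  · refine AlgHom.ext fun b => ?_
    obtain ⟨x, rfl⟩ := hπ b
    rw [AlgHom.comp_apply, hu, hu₀, ← hv x, ← AlgHom.comp_apply, ← Algebra.TensorProduct.map_comp]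
    rfl
  · refine Ideal.Quotient.algHom_ext R (MvPolynomial.algHom_ext fun x => ?_)
    obtain ⟨s, i⟩ := x
    show w (Ideal.Quotient.mkₐ R J (MvPolynomial.X (s, i))) = v (MvPolynomial.X (s, i))
    rw [hX, ← coord_map, ← coord_map, ← hu₀, ← hu, ← AlgHom.comp_apply _ u, hw, MvPolynomial.aeval_X]

include hl hπ in
theorem exists_universal (g : Set (MvPolynomial σ A)) (hg : Ideal.span g = RingHom.ker π) :
    ∃ (J : Ideal (MvPolynomial (σ × Fin n) R)) (u : B →ₐ[A] A ⊗[R] (MvPolynomial (σ × Fin n) R ⧸ J)),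
      (g.Finite → Finite σ → J.FG) ∧
      ∀ (T : Type u) [CommRing T] [Algebra R T] (ψ : B →ₐ[A] A ⊗[R] T),
        ∃! w : (MvPolynomial (σ × Fin n) R ⧸ J) →ₐ[R] T,
          (Algebra.TensorProduct.map (AlgHom.id A A) w).comp u = ψ := by
  let rel : (g × Fin n) ⊕ (σ × Fin n) → MvPolynomial (σ × Fin n) R :=
    Sum.elim (fun x => coord (l x.2) _ (generic a σ x.1.1))
      (fun x => MvPolynomial.X x - coord (l x.2) _ (generic a σ (MvPolynomial.X x.1)))
  have hker : RingHom.ker π ≤ RingHom.ker ((Algebra.TensorProduct.map (AlgHom.id A A)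
      (Ideal.Quotient.mkₐ R (Ideal.span (Set.range rel)))).comp (generic a σ)) := by
    rw [← hg, Ideal.span_le]
    intro x hx
    rw [SetLike.mem_coe, RingHom.mem_ker, AlgHom.comp_apply, ← sum_tmul_coord a l hl
      (Algebra.TensorProduct.map (AlgHom.id A A) _ (generic a σ x))]
    refine Finset.sum_eq_zero fun i _ => ?_
    have : Ideal.Quotient.mkₐ R (Ideal.span (Set.range rel)) (coord (l i) _ (generic a σ x)) = 0 :=
      Ideal.Quotient.eq_zero_iff_mem.2 (Ideal.subset_span ⟨Sum.inl (⟨x, hx⟩, i), rfl⟩)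
    rw [coord_map, this, TensorProduct.tmul_zero]
  have hJ : ∀ p ∈ Ideal.span (Set.range rel), ∀ (T : Type u) [CommRing T] [Algebra R T]
      (v : MvPolynomial (σ × Fin n) R →ₐ[R] T),
      (∀ x ∈ g, ∀ i, v (coord (l i) (MvPolynomial (σ × Fin n) R) (generic a σ x)) = 0) →
      (∀ s i, v (MvPolynomial.X (s, i)) = v (coord (l i) (MvPolynomial (σ × Fin n) R) (generic a σ (MvPolynomial.X s)))) →
      v p = 0 := by
    intro p hp T _ _ v h₁ h₂
    refine (Ideal.span_le (I := RingHom.ker v)).2 ?_ hp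
    rintro _ ⟨(⟨x, i⟩ | ⟨s, i⟩), rfl⟩
    · exact h₁ x.1 x.2 i
    · refine RingHom.mem_ker.2 ?_
      show v (MvPolynomial.X (s, i) - coord (l i) _ (generic a σ (MvPolynomial.X s))) = 0
      rw [map_sub, h₂, sub_self]
  obtain ⟨u, hu⟩ := exists_universal_aux a l hl σ π hπ (Ideal.span (Set.range rel)) (fun x hx => hker hx)
    (fun s i => Ideal.Quotient.eq.2 (Ideal.subset_span ⟨Sum.inr (s, i), rfl⟩)) g
    (fun x hx => RingHom.mem_ker.1 (hg ▸ Ideal.subset_span hx)) hJ
  refine ⟨Ideal.span (Set.range rel), u, fun hgf hσ => ?_, hu⟩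
  haveI := hgf.to_subtype
  haveI := hσ
  exact Submodule.fg_span (Set.finite_range rel)

/-- The Weil restriction of an algebra. -/
theorem exists_weilRes [Module.Finite R A] [Module.Projective R A] :
    ∃ (Q : Type u) (_ : CommRing Q) (_ : Algebra R Q) (u : B →ₐ[A] A ⊗[R] Q),
      (Algebra.FiniteType A B → Algebra.FiniteType R Q) ∧
      (Algebra.FinitePresentation A B → Algebra.FinitePresentation R Q) ∧
      ∀ (T : Type u) [CommRing T] [Algebra R T] (ψ : B →ₐ[A] A ⊗[R] T),
        ∃! w : Q →ₐ[R] T, (Algebra.TensorProduct.map (AlgHom.id A A) w).comp u = ψ := by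
  obtain ⟨n, f, g, hf, hg, hfg⟩ := Module.Finite.exists_comp_eq_id_of_projective R A
  let a : Fin n → A := fun i => f (Pi.single i 1)
  let l : Fin n → A →ₗ[R] R := fun i => (LinearMap.proj i).comp g
  have hl : ∀ x, ∑ i, l i x • a i = x := fun x => by
    conv_rhs => rw [← LinearMap.id_apply (R := R) x, ← hfg, LinearMap.comp_apply, pi_eq_sum_univ (g x)]
    simp only [map_sum, map_smul, l, a, LinearMap.comp_apply, LinearMap.proj_apply]
    refine Finset.sum_congr rfl fun i _ => ?_
    congr 2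
    ext j
    simp [Pi.single_apply, eq_comm]
  by_cases hfp : Algebra.FinitePresentation A B
  · obtain ⟨m, π, hπ, hker⟩ := Algebra.FinitePresentation.out (R := A) (A := B)
    let e := MvPolynomial.renameEquiv A (Equiv.ulift.{u} : ULift.{u} (Fin m) ≃ Fin m)
    let π' := π.comp e.toAlgHom
    have hπ' : Function.Surjective π' := hπ.comp e.surjective
    obtain ⟨s, hs⟩ : (RingHom.ker π').FG :=
      Algebra.FinitePresentation.ker_fG_of_surjective π' hπ'
    obtain ⟨J, u, hJ, huniv⟩ := exists_universal a l hl (ULift.{u} (Fin m)) π' hπ' (s : Set _) hs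
    haveI : Algebra.FinitePresentation R (MvPolynomial (ULift.{u} (Fin m) × Fin n) R ⧸ J) :=
      Algebra.FinitePresentation.quotient (hJ s.finite_toSet inferInstance)
    exact ⟨_, inferInstance, inferInstance, u, fun _ => inferInstance, fun _ => inferInstance, huniv⟩
  by_cases hft : Algebra.FiniteType A B
  · obtain ⟨m, π, hπ⟩ := Algebra.FiniteType.iff_quotient_mvPolynomial''.1 hft
    let e := MvPolynomial.renameEquiv A (Equiv.ulift.{u} : ULift.{u} (Fin m) ≃ Fin m)
    let π' := π.comp e.toAlgHom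
    obtain ⟨J, u, -, huniv⟩ := exists_universal a l hl (ULift.{u} (Fin m)) π' (hπ.comp e.surjective) _
      (Ideal.span_eq (RingHom.ker π'))
    exact ⟨_, inferInstance, inferInstance, u, fun _ => inferInstance, fun h => absurd h hfp, huniv⟩
  · let π : MvPolynomial B A →ₐ[A] B := MvPolynomial.aeval id
    obtain ⟨J, u, -, huniv⟩ := exists_universal a l hl B π (fun b => ⟨MvPolynomial.X b, by simp [π]⟩) _
      (Ideal.span_eq (RingHom.ker π))
    exact ⟨_, inferInstance, inferInstance, u, fun h => absurd h hft, fun h => absurd h hfp, huniv⟩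

end Groth.Agent.WeilAff
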