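import Mathlib.Algebra.MonoidAlgebra.Basic
import Mathlib.Algebra.BigOperators.Ring.Finset
import Mathlib.Data.Fintype.BigOperators
import Mathlib.RingTheory.Idempotents

/-!
# Families of group-like elements in a group algebra
-/

set_option autoImplicit false

universe u

namespace Groth.Agent.WeilAff

variable {M' M : Type u} [CommGroup M'] [CommGroup M] {C : Type u} [CommRing C]

/-- The evaluation of elements of `C[M]` at a character. -/
noncomputable def evalChar {D : Type u} [CommRing D] (f : C →+* D) (χ : M →* D) : MonoidAlgebra C M →+* D :=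
  letI := f.toAlgebra
  (MonoidAlgebra.lift C D M χ).toRingHom

theorem evalChar_single {D : Type u} [CommRing D] (f : C →+* D) (χ : M →* D) (m : M) (c : C) :
    evalChar f χ (MonoidAlgebra.single m c) = f c * χ m := by
  letI := f.toAlgebra
  change MonoidAlgebra.lift C D M χ (MonoidAlgebra.single m c) = _
  rw [MonoidAlgebra.lift_single]
  exact Algebra.smul_def _ _

/-- A family of group-like elements: evaluation is multiplicative in the character. -/
def IsCharFam (ψ : M' →* MonoidAlgebra C M) : Prop :=
  ∀ (D : Type u) [CommRing D] (f : C →+* D) (χ₁ χ₂ : M →* D) (g : M'),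
    evalChar f (χ₁ * χ₂) (ψ g) = evalChar f χ₁ (ψ g) * evalChar f χ₂ (ψ g)

variable [Finite M] [Finite M']

theorem evalChar_eq_sum [Fintype M] {D : Type u} [CommRing D] (f : C →+* D) (χ : M →* D) (z : MonoidAlgebra C M) :
    evalChar f χ z = ∑ m, f (z.coeff m) * χ m := by
  induction z using MonoidAlgebra.induction_linear with
  | zero => simp
  | add a b ha hb => simp only [map_add, ha, hb, MonoidAlgebra.coeff_add, Finsupp.add_apply, add_mul,
      Finset.sum_add_distrib]
  | single m c =>
    classical
    rw [evalChar_single, Finset.sum_eq_single m]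
    · simp
    · intro b _ hb; simp [Ne.symm hb]
    · simp

theorem IsCharFam.exists_idem [Fintype M] [Fintype M'] [DecidableEq M] (ψ : M' →* MonoidAlgebra C M)
    (hψ : IsCharFam ψ) [Fintype (M' →* M)] :
    (∀ g : M', ∀ θ : M' →* M, ∀ m : M, (ψ g).coeff m * (∏ a, (ψ a).coeff (θ a)) =
      if θ g = m then ∏ a, (ψ a).coeff (θ a) else 0) ∧
    (∑ θ : M' →* M, ∏ a, (ψ a).coeff (θ a)) = 1 := by
  classical
  have horth : ∀ g : M', ∀ m n : M, (ψ g).coeff m * (ψ g).coeff n = if m = n then (ψ g).coeff m else 0 := by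
    intro g m n
    have h := hψ (MonoidAlgebra C (M × M)) MonoidAlgebra.singleOneRingHom
      ((MonoidAlgebra.of C (M × M)).comp (MonoidHom.inl M M))
      ((MonoidAlgebra.of C (M × M)).comp (MonoidHom.inr M M)) g
    have hf : ∀ c : C, (MonoidAlgebra.singleOneRingHom : C →+* MonoidAlgebra C (M × M)) c =
        MonoidAlgebra.single 1 c := fun _ => rfl
    have h' := congrArg (fun z => z.coeff (m, n)) h
    simp only [evalChar_eq_sum, hf, Finset.sum_mul, Finset.mul_sum, MonoidHom.mul_apply, MonoidHom.comp_apply,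
      MonoidHom.inl_apply, MonoidHom.inr_apply, MonoidAlgebra.of_apply,
      MonoidAlgebra.single_mul_single, one_mul, mul_one, Prod.mk_mul_mk, MonoidAlgebra.coeff_sum,
      Finsupp.coe_finset_sum, Finset.sum_apply, MonoidAlgebra.coeff_single, Finsupp.single_apply,
      Prod.mk.injEq, ite_and, Finset.sum_ite_eq, Finset.mem_univ, if_true, Finset.sum_ite_eq'] at h'
    exact h'.symm
  have hone : ∀ g : M', ∑ m, (ψ g).coeff m = 1 := by
    intro g
    have h := hψ C (RingHom.id C) 1 1 g
    rw [mul_one] at h
    have hu : IsUnit (evalChar (RingHom.id C) (1 : M →* C) (ψ g)) :=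
      ((Group.isUnit g).map ψ).map (evalChar (RingHom.id C) (1 : M →* C))
    have := hu.mul_eq_left.1 h.symm
    simpa [evalChar_eq_sum] using this
  have hmul : ∀ a b : M', ∀ x y m : M, (ψ (a * b)).coeff m * ((ψ a).coeff x * (ψ b).coeff y) =
      if x * y = m then (ψ a).coeff x * (ψ b).coeff y else 0 := by
    intro a b x y m
    have hab : (ψ (a * b)).coeff m = ∑ x', ∑ y', if x' * y' = m then (ψ a).coeff x' * (ψ b).coeff y' else 0 := by
      rw [map_mul]
      rw [show ψ a * ψ b = ∑ x' : M, ∑ y' : M,
        MonoidAlgebra.single (x' * y') ((ψ a).coeff x' * (ψ b).coeff y') from ?_]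
      · simp [MonoidAlgebra.coeff_sum, Finsupp.single_apply]
      · conv_lhs => rw [← MonoidAlgebra.sum_coeff_single (ψ a), ← MonoidAlgebra.sum_coeff_single (ψ b)]
        rw [Finsupp.sum_fintype _ _ (by simp), Finsupp.sum_fintype _ _ (by simp), Finset.sum_mul]
        simp only [Finset.mul_sum, MonoidAlgebra.single_mul_single]
    rw [hab, Finset.sum_mul, Finset.sum_eq_single x]
    · rw [Finset.sum_mul, Finset.sum_eq_single y]
      · rw [ite_mul, zero_mul]
        split_ifs
        · rw [mul_mul_mul_comm, horth, horth, if_pos rfl, if_pos rfl]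
        · rfl
      · intro y' _ hy
        rw [ite_mul, zero_mul, mul_mul_mul_comm, horth b y', if_neg hy, mul_zero, ite_self]
      · simp
    · intro x' _ hx
      rw [Finset.sum_mul]
      refine Finset.sum_eq_zero fun y' _ => ?_
      rw [ite_mul, zero_mul, mul_mul_mul_comm, horth a x', if_neg hx, zero_mul, ite_self]
    · simp
  have hfac : ∀ f : M' → M, ∀ g, (ψ g).coeff (f g) * (∏ a, (ψ a).coeff (f a)) = ∏ a, (ψ a).coeff (f a) := by
    intro f g
    rw [← Finset.mul_prod_erase Finset.univ (fun a => (ψ a).coeff (f a)) (Finset.mem_univ g), ← mul_assoc,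
      horth, if_pos rfl]
  refine ⟨fun g θ m => ?_, ?_⟩
  · rw [← hfac θ g, ← mul_assoc, horth]
    by_cases h : θ g = m
    · subst h; simp [horth]
    · simp [h, Ne.symm h, horth]
  · have h1 : (∑ f : M' → M, ∏ a, (ψ a).coeff (f a)) = 1 := by
      rw [← Fintype.prod_sum]
      exact Finset.prod_eq_one fun g _ => hone g
    refine Eq.trans ?_ h1
    refine Fintype.sum_of_injective (fun θ : M' →* M => (θ : M' → M)) DFunLike.coe_injective _ _
      (fun f hf => ?_) (fun θ => rfl)
    by_contra hne
    apply hf
    refine ⟨MonoidHom.mk' f fun a b => ?_, rfl⟩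
    by_contra hab
    apply hne
    rw [← hfac f (a * b), ← hfac f b, ← hfac f a]
    simp only [← mul_assoc]
    rw [mul_assoc ((ψ (a * b)).coeff (f (a * b))), mul_comm ((ψ b).coeff (f b)), hmul,
      if_neg (Ne.symm hab), zero_mul]

end Groth.Agent.WeilAff
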