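import Groth.Agent.WeilAff.Algebra
import Mathlib.AlgebraicGeometry.Morphisms.Finite
import Mathlib.AlgebraicGeometry.Morphisms.FinitePresentation
import Mathlib.AlgebraicGeometry.Morphisms.Flat
import Mathlib.CategoryTheory.Monoidal.Cartesian.Over
import Mathlib.RingTheory.Flat.Stability
import Mathlib.RingTheory.Finiteness.ModuleFinitePresentation
import Mathlib.RingTheory.Flat.EquationalCriterion

/-!
# Morphisms `H ×_S T ⟶ G` for `T` affine over an affine open of `S`
-/

set_option autoImplicit false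
set_option backward.isDefEq.respectTransparency.types false

universe u

open CategoryTheory CategoryTheory.Limits MonoidalCategory CartesianMonoidalCategory AlgebraicGeometry
open scoped TensorProduct

noncomputable section

namespace Groth.Agent.WeilAff

/-- The morphism of spectra of an algebra. -/
abbrev sp (R C : Type u) [CommRing R] [CommRing C] [Algebra R C] :
    Spec (CommRingCat.of C) ⟶ Spec (CommRingCat.of R) :=
  Spec.map (CommRingCat.ofHom (algebraMap R C))

/-- An affine morphism over an affine chart is a spectrum. -/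
theorem exists_affineModel {Y S : Scheme.{u}} (q : Y ⟶ S) [IsAffineHom q] {R : Type u} [CommRing R]
    (j : Spec (CommRingCat.of R) ⟶ S) :
    ∃ (A : Type u) (_ : CommRing A) (_ : Algebra R A) (jA : Spec (CommRingCat.of A) ⟶ Y),
      IsPullback jA (sp R A) q j := by
  haveI : IsAffine (pullback q j) := isAffine_of_isAffineHom (pullback.snd q j)
  let α : CommRingCat.of R ⟶ Γ(pullback q j, ⊤) :=
    Spec.preimage ((pullback q j).isoSpec.inv ≫ pullback.snd q j)
  let A : Type u := Γ(pullback q j, ⊤)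
  letI : Algebra R A := α.hom.toAlgebra
  refine ⟨A, inferInstance, inferInstance, (pullback q j).isoSpec.inv ≫ pullback.fst q j, ?_⟩
  have hs : sp R A = (pullback q j).isoSpec.inv ≫ pullback.snd q j := Spec.map_preimage _
  refine (IsPullback.of_hasPullback q j).of_iso (pullback q j).isoSpec (Iso.refl _) (Iso.refl _)
    (Iso.refl _) ?_ ?_ ?_ ?_
  · simp
  · rw [hs]; simp
  · simp
  · simp

section

variable {S : Scheme.{u}} {R : Type u} [CommRing R] (j : Spec (CommRingCat.of R) ⟶ S)
  {H G : Over S} {A G₀ : Type u} [CommRing A] [Algebra R A] [CommRing G₀] [Algebra R G₀]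
  {jA : Spec (CommRingCat.of A) ⟶ H.left} (hA : IsPullback jA (sp R A) H.hom j)
  {jG : Spec (CommRingCat.of G₀) ⟶ G.left} (hG : IsPullback jG (sp R G₀) G.hom j)

/-- An affine scheme over the chart, as a scheme over `S`. -/
abbrev OT (C : Type u) [CommRing C] [Algebra R C] : Over S := Over.mk (sp R C ≫ j)

theorem isPullback_tensor (C : Type u) [CommRing C] [Algebra R C] :
    IsPullback (Spec.map (CommRingCat.ofHom (Algebra.TensorProduct.includeLeft (R := R) (S := R) (A := A) (B := C)).toRingHom))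
      (Spec.map (CommRingCat.ofHom (Algebra.TensorProduct.includeRight (R := R) (A := A) (B := C)).toRingHom))
      (sp R A) (sp R C) :=
  isPullback_SpecMap_of_isPushout _ _ _ _ (CommRingCat.isPushout_tensorProduct R A C)

/-- `H ×_S Spec C` is `Spec (A ⊗ C)`. -/
def eC (C : Type u) [CommRing C] [Algebra R C] :
    Spec (CommRingCat.of (A ⊗[R] C)) ≅ (H ⊗ OT j C).left :=
  ((isPullback_tensor C).paste_horiz hA).isoPullback ≪≫ Iso.refl _

variable {j}

theorem eC_hom_fst (C : Type u) [CommRing C] [Algebra R C] :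
    (eC j hA C).hom ≫ (fst H (OT j C)).left =
      Spec.map (CommRingCat.ofHom (Algebra.TensorProduct.includeLeft (R := R) (S := R) (A := A) (B := C)).toRingHom) ≫ jA := by
  rw [eC, Iso.trans_hom, Iso.refl_hom, Category.comp_id]
  exact IsPullback.isoPullback_hom_fst _

theorem eC_hom_snd (C : Type u) [CommRing C] [Algebra R C] :
    (eC j hA C).hom ≫ (snd H (OT j C)).left =
      Spec.map (CommRingCat.ofHom (Algebra.TensorProduct.includeRight (R := R) (A := A) (B := C)).toRingHom) := by
  rw [eC, Iso.trans_hom, Iso.refl_hom, Category.comp_id]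
  exact IsPullback.isoPullback_hom_snd _

theorem specMap_sp {P B : Type u} [CommRing P] [CommRing B] [Algebra R P] [Algebra R B] (f : P →ₐ[R] B) :
    Spec.map (CommRingCat.ofHom f.toRingHom) ≫ sp R P = sp R B := by
  rw [sp, sp, ← Spec.map_comp, ← CommRingCat.ofHom_comp]
  congr 2
  exact f.comp_algebraMap

theorem exists_algHom_of_spec {P B : Type u} [CommRing P] [CommRing B] [Algebra R P] [Algebra R B]
    (g : Spec (CommRingCat.of B) ⟶ Spec (CommRingCat.of P)) (hg : g ≫ sp R P = sp R B) :
    ∃ f : P →ₐ[R] B, Spec.map (CommRingCat.ofHom f.toRingHom) = g := by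
  have h : CommRingCat.ofHom (algebraMap R P) ≫ Spec.preimage g = CommRingCat.ofHom (algebraMap R B) := by
    apply Spec.map_injective
    rw [Spec.map_comp, Spec.map_preimage]
    exact hg
  refine ⟨{ toRingHom := (Spec.preimage g).hom, commutes' := fun r => ?_ }, ?_⟩
  · exact congrArg (fun φ : CommRingCat.of R ⟶ CommRingCat.of B => φ.hom r) h
  · exact Spec.map_preimage g

theorem specMap_algHom_inj {P B : Type u} [CommRing P] [CommRing B] [Algebra R P] [Algebra R B]
    {f f' : P →ₐ[R] B}
    (h : Spec.map (CommRingCat.ofHom f.toRingHom) = Spec.map (CommRingCat.ofHom f'.toRingHom)) : f = f' :=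
  AlgHom.coe_ringHom_injective (congrArg CommRingCat.Hom.hom (Spec.map_injective h))

/-- The morphism attached to a point with values in `A ⊗ C`. -/
def mor {C : Type u} [CommRing C] [Algebra R C] (ψ : G₀ →ₐ[R] A ⊗[R] C) : H ⊗ OT j C ⟶ G :=
  Over.homMk ((eC j hA C).inv ≫ Spec.map (CommRingCat.ofHom ψ.toRingHom) ≫ jG) (by
    rw [Category.assoc, Category.assoc, hG.w, ← Category.assoc (Spec.map _), specMap_sp,
      Iso.inv_comp_eq, ← Over.w (snd H (OT j C)), ← Category.assoc, eC_hom_snd]
    change _ = Spec.map (CommRingCat.ofHom (Algebra.TensorProduct.includeRight (R := R) (A := A) (B := C)).toRingHom)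
      ≫ sp R C ≫ j
    rw [← Category.assoc, specMap_sp])

theorem mor_left {C : Type u} [CommRing C] [Algebra R C] (ψ : G₀ →ₐ[R] A ⊗[R] C) :
    (eC j hA C).hom ≫ (mor hA hG ψ).left = Spec.map (CommRingCat.ofHom ψ.toRingHom) ≫ jG := by
  simp [mor]

theorem mor_bijective (C : Type u) [CommRing C] [Algebra R C] :
    Function.Bijective (mor hA hG (C := C)) := by
  refine ⟨fun ψ ψ' h => ?_, fun φ => ?_⟩
  · refine specMap_algHom_inj (hG.hom_ext ?_ ?_)
    · rw [← mor_left hA hG ψ, h, mor_left]
    · rw [specMap_sp, specMap_sp]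
  · have hw : ((eC j hA C).hom ≫ φ.left) ≫ G.hom = sp R (A ⊗[R] C) ≫ j := by
      rw [Category.assoc, Over.w φ, ← Over.w (snd H (OT j C)), ← Category.assoc, eC_hom_snd]
      change Spec.map _ ≫ sp R C ≫ j = _
      rw [← Category.assoc, specMap_sp]
    obtain ⟨ψ, hψ⟩ := exists_algHom_of_spec (hG.lift _ _ hw) (hG.lift_snd _ _ hw)
    refine ⟨ψ, Over.OverMorphism.ext ?_⟩
    rw [← cancel_epi (eC j hA C).hom, mor_left, hψ, hG.lift_fst]

/-- The morphism over `S` attached to an algebra map. -/
def pt {P C : Type u} [CommRing P] [Algebra R P] [CommRing C] [Algebra R C] (w : P →ₐ[R] C) :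
    OT j C ⟶ OT j P :=
  Over.homMk (Spec.map (CommRingCat.ofHom w.toRingHom)) (by
    change Spec.map _ ≫ sp R P ≫ j = sp R C ≫ j
    rw [← Category.assoc, specMap_sp])

theorem pt_bijective [Mono j] (P C : Type u) [CommRing P] [Algebra R P] [CommRing C] [Algebra R C] :
    Function.Bijective (pt (j := j) (P := P) (C := C)) := by
  refine ⟨fun w w' h => specMap_algHom_inj (congrArg CommaMorphism.left h), fun v => ?_⟩
  obtain ⟨w, hw⟩ := exists_algHom_of_spec v.left ((cancel_mono j).1 (by
    rw [Category.assoc]; exact Over.w v))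
  exact ⟨w, Over.OverMorphism.ext hw⟩

include hA in
theorem whisker_pt {P C : Type u} [CommRing P] [Algebra R P] [CommRing C] [Algebra R C] (w : P →ₐ[R] C) :
    (eC j hA C).hom ≫ (H ◁ pt (j := j) w).left =
      Spec.map (CommRingCat.ofHom (Algebra.TensorProduct.map (AlgHom.id R A) w).toRingHom) ≫ (eC j hA P).hom := by
  apply pullback.hom_ext
  · change ((eC j hA C).hom ≫ (H ◁ pt (j := j) w).left) ≫ (fst H (OT j P)).left =
      (_ ≫ (eC j hA P).hom) ≫ (fst H (OT j P)).left
    rw [Category.assoc, Category.assoc, ← Over.comp_left, whiskerLeft_fst, eC_hom_fst, eC_hom_fst,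
      ← Category.assoc (Spec.map _), ← Spec.map_comp, ← CommRingCat.ofHom_comp]
    congr 3
    ext a
    simp
  · change ((eC j hA C).hom ≫ (H ◁ pt (j := j) w).left) ≫ (snd H (OT j P)).left =
      (_ ≫ (eC j hA P).hom) ≫ (snd H (OT j P)).left
    rw [Category.assoc, Category.assoc, ← Over.comp_left, whiskerLeft_snd, Over.comp_left,
      ← Category.assoc, eC_hom_snd, eC_hom_snd]
    change Spec.map _ ≫ Spec.map _ = Spec.map _ ≫ Spec.map _
    rw [← Spec.map_comp, ← Spec.map_comp, ← CommRingCat.ofHom_comp, ← CommRingCat.ofHom_comp]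
    congr 2

theorem mor_natural {P C : Type u} [CommRing P] [Algebra R P] [CommRing C] [Algebra R C] (w : P →ₐ[R] C)
    (ψ : G₀ →ₐ[R] A ⊗[R] P) :
    (H ◁ pt (j := j) w) ≫ mor hA hG ψ =
      mor hA hG ((Algebra.TensorProduct.map (AlgHom.id R A) w).comp ψ) := by
  refine Over.OverMorphism.ext ?_
  rw [← cancel_epi (eC j hA C).hom, mor_left, Over.comp_left, ← Category.assoc, whisker_pt hA,
    Category.assoc, mor_left, ← Category.assoc, ← Spec.map_comp, ← CommRingCat.ofHom_comp]
  rfl

end

variable {S : Scheme.{u}}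

/-- `Z` with `z` represents `T ↦ (H ⊗ T ⟶ G)` at `T`. -/
def RepAt (H G : Over S) (Z : Over S) (z : H ⊗ Z ⟶ G) (T : Over S) : Prop :=
  ∀ φ : H ⊗ T ⟶ G, ∃! v : T ⟶ Z, (H ◁ v) ≫ z = φ

theorem RepAt.of_iso {H G Z : Over S} {z : H ⊗ Z ⟶ G} {T T' : Over S} (e : T ≅ T')
    (h : RepAt H G Z z T') : RepAt H G Z z T := by
  intro φ
  obtain ⟨v, hv, huniq⟩ := h ((H ◁ e.inv) ≫ φ)
  refine ⟨e.hom ≫ v, ?_, fun v' hv' => ?_⟩
  · change (H ◁ (e.hom ≫ v)) ≫ z = φ
    rw [whiskerLeft_comp, Category.assoc, hv, ← whiskerLeft_comp_assoc, e.hom_inv_id,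
      MonoidalCategory.whiskerLeft_id, Category.id_comp]
  · rw [← huniq (e.inv ≫ v') (by change (H ◁ (e.inv ≫ v')) ≫ z = _; rw [whiskerLeft_comp, Category.assoc, hv']),
      Iso.hom_inv_id_assoc]

/-- Over an affine chart the functor of morphisms is represented by an affine scheme. -/
theorem exists_repAt_spec {R : Type u} [CommRing R] (j : Spec (CommRingCat.of R) ⟶ S) [Mono j]
    {H G : Over S} {A G₀ : Type u} [CommRing A] [Algebra R A] [CommRing G₀] [Algebra R G₀]
    {jA : Spec (CommRingCat.of A) ⟶ H.left} (hA : IsPullback jA (sp R A) H.hom j)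
    {jG : Spec (CommRingCat.of G₀) ⟶ G.left} (hG : IsPullback jG (sp R G₀) G.hom j)
    [Module.Finite R A] [Module.Projective R A] :
    ∃ (Q : Type u) (_ : CommRing Q) (_ : Algebra R Q) (z : H ⊗ OT j Q ⟶ G),
      (Algebra.FiniteType R G₀ → Algebra.FiniteType R Q) ∧
      (Algebra.FinitePresentation R G₀ → Algebra.FinitePresentation R Q) ∧
      ∀ (C : Type u) [CommRing C] [Algebra R C], RepAt H G (OT j Q) z (OT j C) := by
  obtain ⟨Q, _, _, u, hft, hfp, huniv⟩ := exists_weilRes (R := R) (A := A) (B := A ⊗[R] G₀)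
  let u₀ : G₀ →ₐ[R] A ⊗[R] Q := (u.restrictScalars R).comp Algebra.TensorProduct.includeRight
  refine ⟨Q, inferInstance, inferInstance, mor hA hG u₀, fun h => hft inferInstance,
    fun h => hfp inferInstance, fun C _ _ φ => ?_⟩
  obtain ⟨ψ, rfl⟩ := (mor_bijective hA hG C).2 φ
  let ψ' : A ⊗[R] G₀ →ₐ[A] A ⊗[R] C :=
    Algebra.TensorProduct.lift (Algebra.ofId A (A ⊗[R] C)) ψ (fun _ _ => Commute.all _ _)
  have hψ' : (ψ'.restrictScalars R).comp Algebra.TensorProduct.includeRight = ψ :=
    AlgHom.ext fun x => by simp [ψ']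
  have key : ∀ w : Q →ₐ[R] C, (Algebra.TensorProduct.map (AlgHom.id R A) w).comp u₀ = ψ ↔
      (Algebra.TensorProduct.map (AlgHom.id A A) w).comp u = ψ' := by
    intro w
    constructor
    · intro h
      refine Algebra.TensorProduct.ext (Subsingleton.elim _ _) ?_
      rw [hψ', ← h]
      rfl
    · intro h
      rw [← hψ', ← h]
      rfl
  obtain ⟨w, hw, hwu⟩ := huniv C ψ'
  refine ⟨pt w, ?_, fun v hv => ?_⟩
  · change (H ◁ pt w) ≫ mor hA hG u₀ = mor hA hG ψ
    rw [mor_natural, (key w).2 hw]
  · obtain ⟨w', rfl⟩ := (pt_bijective (j := j) Q C).2 v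
    rw [mor_natural] at hv
    rw [hwu w' ((key w').1 ((mor_bijective hA hG C).1 hv))]

/-- Over an affine open the functor of morphisms is represented on affine schemes. -/
theorem exists_repAt_affine {H G : Over S} [IsFinite H.hom] [Flat H.hom] [LocallyOfFinitePresentation H.hom]
    [IsAffineHom G.hom] (U : S.affineOpens) :
    ∃ (Z : Over S) (z : H ⊗ Z ⟶ G), IsAffine Z.left ∧ Set.range Z.hom ⊆ (U.1 : Set S) ∧
      (LocallyOfFiniteType G.hom → LocallyOfFiniteType Z.hom) ∧
      (LocallyOfFinitePresentation G.hom → LocallyOfFinitePresentation Z.hom) ∧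
      ∀ T : Over S, IsAffine T.left → Set.range T.hom ⊆ (U.1 : Set S) → RepAt H G Z z T := by
  let R : Type u := Γ(S, U.1)
  let j : Spec (CommRingCat.of R) ⟶ S := U.2.fromSpec
  haveI : IsOpenImmersion j := U.2.isOpenImmersion_fromSpec
  have hj : Set.range j = (U.1 : Set S) := U.2.range_fromSpec
  obtain ⟨A, _, _, jA, hA⟩ := exists_affineModel H.hom j
  obtain ⟨G₀, _, _, jG, hG⟩ := exists_affineModel G.hom j
  haveI hfin : IsFinite (sp R A) := MorphismProperty.of_isPullback hA inferInstance
  haveI hflat : Flat (sp R A) := MorphismProperty.of_isPullback hA inferInstance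
  haveI hlfp : LocallyOfFinitePresentation (sp R A) := MorphismProperty.of_isPullback hA inferInstance
  haveI : Module.Finite R A := RingHom.finite_algebraMap.1 ((IsFinite.SpecMap_iff _).1 hfin)
  haveI : Module.Flat R A :=
    RingHom.flat_algebraMap_iff.1 ((HasRingHomProperty.Spec_iff (P := @Flat)).1 hflat)
  haveI : Algebra.FinitePresentation R A := RingHom.finitePresentation_algebraMap.1
    ((HasRingHomProperty.Spec_iff (P := @LocallyOfFinitePresentation)).1 hlfp)
  haveI : Module.FinitePresentation R A := Module.FinitePresentation.of_finite_of_finitePresentation ..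
  haveI : Module.Projective R A := Module.Flat.projective_of_finitePresentation
  obtain ⟨Q, _, _, z, hft, hfp, hrep⟩ := exists_repAt_spec j hA hG
  refine ⟨OT j Q, z, inferInstanceAs (IsAffine (Spec _)), ?_, fun h => ?_, fun h => ?_, fun T hT hTU => ?_⟩
  · rintro _ ⟨x, rfl⟩
    rw [← hj]
    exact ⟨sp R Q x, rfl⟩
  · have hG' : LocallyOfFiniteType (sp R G₀) := MorphismProperty.of_isPullback hG h
    haveI : LocallyOfFiniteType (sp R Q) := (HasRingHomProperty.Spec_iff (P := @LocallyOfFiniteType)).2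
      (RingHom.finiteType_algebraMap.2 (hft (RingHom.finiteType_algebraMap.1
        ((HasRingHomProperty.Spec_iff (P := @LocallyOfFiniteType)).1 hG'))))
    exact inferInstanceAs (LocallyOfFiniteType (sp R Q ≫ j))
  · have hG' : LocallyOfFinitePresentation (sp R G₀) := MorphismProperty.of_isPullback hG h
    haveI : LocallyOfFinitePresentation (sp R Q) :=
      (HasRingHomProperty.Spec_iff (P := @LocallyOfFinitePresentation)).2
        (RingHom.finitePresentation_algebraMap.2 (hfp (RingHom.finitePresentation_algebraMap.1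
          ((HasRingHomProperty.Spec_iff (P := @LocallyOfFinitePresentation)).1 hG'))))
    exact inferInstanceAs (LocallyOfFinitePresentation (sp R Q ≫ j))
  · haveI := hT
    let t' : T.left ⟶ Spec (CommRingCat.of R) := IsOpenImmersion.lift j T.hom (by rw [hj]; exact hTU)
    let C : Type u := Γ(T.left, ⊤)
    letI : Algebra R C := (Spec.preimage (T.left.isoSpec.inv ≫ t')).hom.toAlgebra
    have hs : sp R C = T.left.isoSpec.inv ≫ t' := Spec.map_preimage _
    refine (hrep C).of_iso (Over.isoMk T.left.isoSpec ?_)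
    change T.left.isoSpec.hom ≫ sp R C ≫ j = T.hom
    rw [hs, Category.assoc, Iso.hom_inv_id_assoc, IsOpenImmersion.lift_fac]

end Groth.Agent.WeilAff
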